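import Mathlib
import Groth.Agent.FlatDescent.Scheme

/-!
# Fibrewise criteria for morphisms over a base

For `f : X ⟶ Y` over `S` (structure map `g` on `Y`), `f ≫ g` flat and locally of finite
presentation: flat, smooth, unramified, étale, universally injective, open immersion are
checked on the fibre maps `pullback.snd f (g.fiberι s)`.
-/

universe u

open AlgebraicGeometry CategoryTheory Limits MorphismProperty

namespace Groth.FibrewiseCrit

set_option linter.style.haveILetI false

variable {X Y S : Scheme.{u}}

/-- Cancellation for morphisms locally of finite presentation. -/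
theorem locallyOfFinitePresentation_of_comp {X Y Z : Scheme.{u}} (f : X ⟶ Y) (g : Y ⟶ Z)
    (h : LocallyOfFinitePresentation (f ≫ g)) (hg : LocallyOfFiniteType g) : LocallyOfFinitePresentation f := by
  wlog hZ : IsAffine Z generalizing X Y Z
  · rw [IsZariskiLocalAtTarget.iff_of_iSup_eq_top (P := @LocallyOfFinitePresentation) _
      (g.iSup_preimage_eq_top (iSup_affineOpens_eq_top Z))]
    intro U
    have H := IsZariskiLocalAtTarget.restrict (P := @LocallyOfFinitePresentation) h U.1
    rw [morphismRestrict_comp] at H
    exact this _ (g ∣_ U.1) H (IsZariskiLocalAtTarget.restrict (P := @LocallyOfFiniteType) hg U.1) inferInstance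
  wlog hY : IsAffine Y generalizing X Y
  · rw [IsZariskiLocalAtTarget.iff_of_iSup_eq_top (P := @LocallyOfFinitePresentation) _ (iSup_affineOpens_eq_top Y)]
    intro U
    have H := HasRingHomProperty.comp_of_isOpenImmersion @LocallyOfFinitePresentation (f ⁻¹ᵁ U.1).ι (f ≫ g) h
    rw [← morphismRestrict_ι_assoc] at H
    exact this _ (U.1.ι ≫ g) H (HasRingHomProperty.comp_of_isOpenImmersion @LocallyOfFiniteType U.1.ι g hg) inferInstance
  wlog hX : IsAffine X generalizing X
  · rw [IsZariskiLocalAtSource.iff_of_iSup_eq_top (P := @LocallyOfFinitePresentation) _ (iSup_affineOpens_eq_top X)]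
    intro U
    have H := HasRingHomProperty.comp_of_isOpenImmersion @LocallyOfFinitePresentation U.1.ι (f ≫ g) h
    rw [← Category.assoc] at H
    exact this _ H inferInstance
  rw [HasRingHomProperty.iff_of_isAffine (P := @LocallyOfFinitePresentation)] at h ⊢
  rw [HasRingHomProperty.iff_of_isAffine (P := @LocallyOfFiniteType)] at hg
  exact RingHom.FinitePresentation.of_comp_finiteType _ h hg

theorem of_snd_comp {P : MorphismProperty Scheme.{u}} [P.IsStableUnderBaseChange]
    {Y' T : Scheme.{u}} (f : X ⟶ Y) (i : Y' ⟶ Y) (j : T ⟶ Y') (h : P (pullback.snd f i)) :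
    P (pullback.snd f (j ≫ i)) := by
  refine (P.cancel_left_of_respectsIso (pullbackLeftPullbackSndIso f i j).hom _).mp ?_
  rw [pullbackLeftPullbackSndIso_hom_snd]
  exact P.pullback_snd _ _ h

/-- Fibre over a point of `Y` from the fibre map over `S`. -/
theorem fiberToSpecResidueField_of_fibres {P : MorphismProperty Scheme.{u}} [P.IsStableUnderBaseChange]
    (f : X ⟶ Y) (g : Y ⟶ S) (hf : ∀ s : S, P (pullback.snd f (g.fiberι s))) (y : Y) :
    P (f.fiberToSpecResidueField y) := by
  have := of_snd_comp f (g.fiberι (g y)) (g.asFiberHom y) (hf _)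
  rwa [g.asFiberHom_fiberι] at this

/-- The fibrewise criterion of flatness in terms of the fibre maps. -/
theorem flatAt_of_fibres (f : X ⟶ Y) (g : Y ⟶ S) [LocallyOfFinitePresentation (f ≫ g)]
    [LocallyOfFiniteType g] [Flat (f ≫ g)] (hf : ∀ s : S, Flat (pullback.snd f (g.fiberι s))) (x : X) :
    (g.stalkMap (f x)).hom.Flat ∧ (f.stalkMap x).hom.Flat := by
  let s := (f ≫ g) x
  let e := pullbackRightPullbackFstIso g (S.fromSpecResidueField s) f
  let φ : (f ≫ g).fiber s ⟶ g.fiber s := e.inv ≫ pullback.snd f (g.fiberι s)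
  have hφ : φ ≫ g.fiberι s = (f ≫ g).fiberι s ≫ f := by
    change (e.inv ≫ pullback.snd f (pullback.fst g _)) ≫ pullback.fst g _ = pullback.fst _ _ ≫ f
    rw [Category.assoc, ← pullback.condition, pullbackRightPullbackFstIso_inv_fst_assoc]
  haveI : Flat φ := by
    exact (MorphismProperty.cancel_left_of_respectsIso @Flat e.inv _).mpr (hf s)
  have h := (FlatDescent.flat_fiberMap_iff f g s φ hφ ((f ≫ g).asFiber x)).mp (Flat.stalkMap φ _)
  rw [Scheme.Hom.fiberι_asFiber] at h
  exact FlatDescent.flat_of_fibFlat f g x (Flat.stalkMap (f ≫ g) x) h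

theorem flat_of_fibres (f : X ⟶ Y) (g : Y ⟶ S) [LocallyOfFinitePresentation (f ≫ g)]
    [LocallyOfFiniteType g] [Flat (f ≫ g)] (hf : ∀ s : S, Flat (pullback.snd f (g.fiberι s))) :
    Flat f :=
  Flat.iff_flat_stalkMap f |>.mpr fun x => (flatAt_of_fibres f g hf x).2

theorem smooth_of_fibres (f : X ⟶ Y) (g : Y ⟶ S) [LocallyOfFinitePresentation (f ≫ g)]
    [LocallyOfFiniteType g] [LocallyOfFinitePresentation f] [Flat (f ≫ g)]
    (hf : ∀ s : S, Smooth (pullback.snd f (g.fiberι s))) : Smooth f :=
  haveI := flat_of_fibres f g fun s => (haveI := hf s; inferInstance)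
  Smooth.of_smooth_fiberToSpecResidueField f (fiberToSpecResidueField_of_fibres f g hf)

/-- A property of the diagonals of the fibre maps holds for the fibre maps of the diagonal. -/
theorem diagonal_fibres {P : MorphismProperty Scheme.{u}} [P.IsStableUnderBaseChange]
    (f : X ⟶ Y) (g : Y ⟶ S) (s : S) (h : P (pullback.diagonal (pullback.snd f (g.fiberι s)))) :
    P (pullback.snd (pullback.diagonal f) ((pullback.fst f f ≫ f ≫ g).fiberι s)) := by
  let q := pullback.fst f f ≫ f ≫ g
  let i := g.fiberι s
  let f' := pullback.snd f i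
  haveI : Mono i := inferInstance
  let m : pullback f' f' ⟶ pullback f f :=
    pullback.map f' f' f f (pullback.fst f i) (pullback.fst f i) i pullback.condition.symm pullback.condition.symm
  let k : q.fiber s ⟶ pullback f f := q.fiberι s
  have hk : ((k ≫ pullback.fst f f) ≫ f) ≫ g = q.fiberToSpecResidueField s ≫ S.fromSpecResidueField s := by
    simp only [Category.assoc]
    exact pullback.condition
  let c : q.fiber s ⟶ g.fiber s := pullback.lift ((k ≫ pullback.fst f f) ≫ f) (q.fiberToSpecResidueField s) hk
  have hc : c ≫ i = (k ≫ pullback.fst f f) ≫ f := pullback.lift_fst _ _ _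
  let k' : q.fiber s ⟶ pullback f' f' := pullback.lift
    (pullback.lift (k ≫ pullback.fst f f) c hc.symm)
    (pullback.lift (k ≫ pullback.snd f f) c (by rw [hc, Category.assoc, Category.assoc, pullback.condition]))
    (by rw [pullback.lift_snd, pullback.lift_snd])
  have hk' : k' ≫ m = k := by
    apply pullback.hom_ext
    · rw [Category.assoc, pullback.lift_fst, pullback.lift_fst_assoc, pullback.lift_fst]
    · rw [Category.assoc, pullback.lift_snd, pullback.lift_snd_assoc, pullback.lift_fst]
  have hm1 : m ≫ pullback.fst f f = pullback.fst f' f' ≫ pullback.fst f i := pullback.lift_fst _ _ _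
  have hm2 : m ≫ pullback.snd f f = pullback.snd f' f' ≫ pullback.fst f i := pullback.lift_snd _ _ _
  have hsq : IsPullback (pullback.fst f i) (pullback.diagonal f') (pullback.diagonal f) m := by
    refine ⟨⟨by apply pullback.hom_ext <;> simp [hm1, hm2]⟩, ⟨?_⟩⟩
    refine PullbackCone.IsLimit.mk _ (fun t => t.snd ≫ pullback.fst f' f') (fun t => ?_) (fun t => ?_)
      (fun t v _ hv => ?_)
    · have := t.condition =≫ pullback.fst f f
      simp [hm1] at this
      simp [this]
    · have h1 := t.condition =≫ pullback.fst f f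
      have h2 := t.condition =≫ pullback.snd f f
      simp [hm1, hm2] at h1 h2
      apply pullback.hom_ext
      · simp
      · rw [← cancel_mono (pullback.fst f i)]
        simp only [Category.assoc, pullback.diagonal_snd_assoc]
        simp [← h1, ← h2]
    · simp [← hv]
  have h' : P (pullback.snd (pullback.diagonal f) m) := by
    rw [← hsq.isoPullback_inv_snd]
    exact (P.cancel_left_of_respectsIso _ _).mpr h
  have := of_snd_comp (pullback.diagonal f) m k' h'
  rwa [hk'] at this

theorem universallyInjective_of_fibres (f : X ⟶ Y) (g : Y ⟶ S)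
    (hf : ∀ s : S, UniversallyInjective (pullback.snd f (g.fiberι s))) : UniversallyInjective f := by
  rw [UniversallyInjective.iff_diagonal]
  refine ⟨fun w => ?_⟩
  let q := pullback.fst f f ≫ f ≫ g
  haveI := diagonal_fibres (P := @Surjective) f g (q w) ((UniversallyInjective.iff_diagonal _).mp (hf _))
  obtain ⟨p, hp⟩ := (pullback.snd (pullback.diagonal f) (q.fiberι (q w))).surjective (q.asFiber w)
  refine ⟨pullback.fst (pullback.diagonal f) (q.fiberι (q w)) p, ?_⟩
  rw [← Scheme.Hom.comp_apply, pullback.condition, Scheme.Hom.comp_apply, hp, Scheme.Hom.fiberι_asFiber]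

theorem formallyUnramified_of_fibres (f : X ⟶ Y) (g : Y ⟶ S) [LocallyOfFinitePresentation (f ≫ g)]
    [LocallyOfFiniteType g] [LocallyOfFiniteType f] [Flat (f ≫ g)]
    (hf : ∀ s : S, FormallyUnramified (pullback.snd f (g.fiberι s))) : FormallyUnramified f := by
  let q := pullback.fst f f ≫ f ≫ g
  have hq : pullback.diagonal f ≫ q = f ≫ g := by simp [q]
  haveI : LocallyOfFinitePresentation (pullback.diagonal f ≫ q) := by rw [hq]; infer_instance
  haveI : Flat (pullback.diagonal f ≫ q) := by rw [hq]; infer_instance
  haveI : LocallyOfFiniteType q := inferInstanceAs (LocallyOfFiniteType (_ ≫ _ ≫ _))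
  haveI : Flat (pullback.diagonal f) := flat_of_fibres _ q fun s =>
    diagonal_fibres (P := @Flat) f g s (haveI := hf s; inferInstance)
  haveI : LocallyOfFinitePresentation (pullback.diagonal f) :=
    locallyOfFinitePresentation_of_comp _ (pullback.fst f f) (by rw [pullback.diagonal_fst]; infer_instance) inferInstance
  haveI := IsOpenImmersion.of_flat_of_mono (pullback.diagonal f)
  infer_instance

theorem etale_of_fibres (f : X ⟶ Y) (g : Y ⟶ S) [LocallyOfFinitePresentation (f ≫ g)]
    [LocallyOfFiniteType g] [LocallyOfFinitePresentation f] [Flat (f ≫ g)]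
    (hf : ∀ s : S, Etale (pullback.snd f (g.fiberι s))) : Etale f :=
  haveI := flat_of_fibres f g fun s => (haveI := hf s; inferInstance)
  haveI := formallyUnramified_of_fibres f g fun s => (haveI := hf s; inferInstance)
  Etale.of_formallyUnramified_of_flat f

theorem mono_of_formallyUnramified_of_universallyInjective (f : X ⟶ Y) [FormallyUnramified f]
    [LocallyOfFiniteType f] [UniversallyInjective f] : Mono f := by
  haveI := (UniversallyInjective.iff_diagonal f).mp inferInstance
  haveI : IsIso (pullback.diagonal f) := (isIso_iff_isOpenImmersion_and_surjective _).mpr ⟨inferInstance, inferInstance⟩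
  exact (pullback.isIso_diagonal_iff f).mp inferInstance

theorem isOpenImmersion_of_fibres (f : X ⟶ Y) (g : Y ⟶ S) [LocallyOfFinitePresentation (f ≫ g)]
    [LocallyOfFiniteType g] [LocallyOfFinitePresentation f] [Flat (f ≫ g)]
    (hf : ∀ s : S, IsOpenImmersion (pullback.snd f (g.fiberι s))) : IsOpenImmersion f := by
  haveI := flat_of_fibres f g fun s => (haveI := hf s; inferInstance)
  haveI := formallyUnramified_of_fibres f g fun s => (haveI := hf s; inferInstance)
  haveI := universallyInjective_of_fibres f g fun s => (haveI := hf s; inferInstance)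
  haveI := mono_of_formallyUnramified_of_universallyInjective f
  exact IsOpenImmersion.of_flat_of_mono f

theorem surjective_of_fibres (f : X ⟶ Y) (g : Y ⟶ S)
    (hf : ∀ s : S, Surjective (pullback.snd f (g.fiberι s))) : Surjective f := by
  refine ⟨fun y => ?_⟩
  haveI := hf (g y)
  obtain ⟨p, hp⟩ := (pullback.snd f (g.fiberι (g y))).surjective (g.asFiber y)
  refine ⟨pullback.fst f (g.fiberι (g y)) p, ?_⟩
  rw [← Scheme.Hom.comp_apply, pullback.condition, Scheme.Hom.comp_apply, hp, Scheme.Hom.fiberι_asFiber]

theorem isIso_of_fibres (f : X ⟶ Y) (g : Y ⟶ S) [LocallyOfFinitePresentation (f ≫ g)]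
    [LocallyOfFiniteType g] [LocallyOfFinitePresentation f] [Flat (f ≫ g)]
    (hf : ∀ s : S, IsIso (pullback.snd f (g.fiberι s))) : IsIso f := by
  haveI := isOpenImmersion_of_fibres f g fun s => (haveI := hf s; inferInstance)
  haveI := surjective_of_fibres f g fun s => (haveI := hf s; inferInstance)
  exact (isIso_iff_isOpenImmersion_and_surjective _).mpr ⟨inferInstance, inferInstance⟩

end Groth.FibrewiseCrit
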