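import Mathlib
import Groth.Agent.FibrewiseCrit.Basic

/-!
# The quasi-finite locus and base change
-/

universe u

open AlgebraicGeometry CategoryTheory Limits

namespace Groth.FibrewiseCrit

set_option linter.style.haveILetI false
set_option backward.isDefEq.respectTransparency false

variable {X Y : Scheme.{u}}

/-- Quasi-finiteness at a point commutes with arbitrary base change. -/
theorem quasiFiniteAt_of_isPullback {X' Z : Scheme.{u}} {f : X ⟶ Y} [LocallyOfFiniteType f] {g : Z ⟶ Y}
    {f' : X' ⟶ Z} {g' : X' ⟶ X} (h : IsPullback g' f' f g) (x' : X') :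
    f'.QuasiFiniteAt x' ↔ f.QuasiFiniteAt (g' x') := by
  haveI : LocallyOfFiniteType f' := MorphismProperty.of_isPullback h inferInstance
  constructor
  · intro hx
    rw [Scheme.Hom.quasiFiniteAt_iff_isOpen_singleton_asFiber] at hx
    have sq := isPullback_fiberToSpecResidueField_of_isPullback h (f' x')
    let p := pullback.map f' (Z.fromSpecResidueField (f' x')) f (Y.fromSpecResidueField (g (f' x'))) g'
      (Spec.map (g.residueFieldMap (f' x'))) g h.w.symm (by simp)
    haveI : IsIntegral (Spec (Y.residueField (g (f' x')))) := inferInstance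
    haveI : UniversallyOpen p := MorphismProperty.of_isPullback sq.flip inferInstance
    have ho := p.isOpenMap _ hx
    rw [Set.image_singleton] at ho
    have hy : f (g' x') = g (f' x') := by rw [← Scheme.Hom.comp_apply, h.w, Scheme.Hom.comp_apply]
    have key : ∀ (y : Y) (hy : f (g' x') = y) (z : f.fiber y), f.fiberι y z = g' x' → IsOpen {z} →
        f.QuasiFiniteAt (g' x') := by
      rintro y rfl z hz hzo
      rw [Scheme.Hom.quasiFiniteAt_iff_isOpen_singleton_asFiber]
      have : z = f.asFiber (g' x') := by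
        apply (f.fiberι _).isEmbedding.injective
        rw [hz, Scheme.Hom.fiberι_asFiber]
      rwa [← this]
    refine key _ hy _ ?_ ho
    have hp : p ≫ f.fiberι (g (f' x')) = f'.fiberι (f' x') ≫ g' := pullback.lift_fst _ _ _
    refine (Scheme.Hom.comp_apply _ _ _).symm.trans ((congr($hp (f'.asFiber x'))).trans ?_)
    rw [Scheme.Hom.comp_apply, Scheme.Hom.fiberι_asFiber]
  · intro hx
    rw [Scheme.Hom.quasiFiniteAt_iff] at hx ⊢
    let T := pullback (X.fromSpecStalk (g' x') ≫ f) g
    have hc : (Spec.map (g'.stalkMap x') ≫ X.fromSpecStalk (g' x')) ≫ f = (X'.fromSpecStalk x' ≫ f') ≫ g := by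
      rw [Scheme.SpecMap_stalkMap_fromSpecStalk, Category.assoc, Category.assoc, h.w]
    let k : Spec (X'.presheaf.stalk x') ⟶ T :=
      pullback.lift (Spec.map (g'.stalkMap x')) (X'.fromSpecStalk x' ≫ f') (by rw [← Category.assoc]; exact hc)
    let m : T ⟶ X' := h.lift (pullback.fst _ _ ≫ X.fromSpecStalk (g' x')) (pullback.snd _ _)
      (by rw [Category.assoc]; exact pullback.condition)
    have hkm : k ≫ m = X'.fromSpecStalk x' := by
      apply h.hom_ext
      · simp [k, m, Scheme.SpecMap_stalkMap_fromSpecStalk]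
      · simp [k, m]
    haveI : LocallyQuasiFinite (k ≫ m) := by rw [hkm]; infer_instance
    haveI : LocallyQuasiFinite k := LocallyQuasiFinite.of_comp k m
    haveI : LocallyQuasiFinite (pullback.snd (X.fromSpecStalk (g' x') ≫ f) g) :=
      MorphismProperty.pullback_snd _ _ hx
    have : X'.fromSpecStalk x' ≫ f' = k ≫ pullback.snd _ _ := (pullback.lift_snd _ _ _).symm
    rw [this]
    infer_instance

theorem locallyQuasiFinite_iff_forall_quasiFiniteAt (f : X ⟶ Y) [LocallyOfFiniteType f] :
    LocallyQuasiFinite f ↔ ∀ x, f.QuasiFiniteAt x := by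
  refine ⟨fun _ x => f.quasiFiniteAt x, fun h => locallyQuasiFinite_iff_isDiscrete_preimage_singleton.mpr fun y => ?_⟩
  rw [isDiscrete_iff_discreteTopology, discreteTopology_iff_isOpen_singleton]
  rintro ⟨x, hx⟩
  obtain rfl : f x = y := hx
  have := (f.fiberHomeo (f x)).isOpenMap _ (Scheme.Hom.quasiFiniteAt_iff_isOpen_singleton_asFiber.mp (h x))
  rw [Set.image_singleton] at this
  simpa [Scheme.Hom.asFiber] using this

theorem exists_nhd_locallyQuasiFinite_iff (f : X ⟶ Y) [LocallyOfFiniteType f] (x : X) :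
    (∃ U : X.Opens, x ∈ U ∧ LocallyQuasiFinite (U.ι ≫ f)) ↔ f.QuasiFiniteAt x := by
  constructor
  · rintro ⟨U, hxU, hU⟩
    obtain ⟨w, rfl⟩ : x ∈ Set.range U.ι := by rw [Scheme.Opens.range_ι]; exact hxU
    exact Scheme.Hom.quasiFiniteAt_comp_iff_of_isOpenImmersion.mp ((U.ι ≫ f).quasiFiniteAt w)
  · intro hx
    refine ⟨f.quasiFiniteLocus, hx, (locallyQuasiFinite_iff_forall_quasiFiniteAt _).mpr fun w => ?_⟩
    exact Scheme.Hom.quasiFiniteAt_comp_iff_of_isOpenImmersion.mpr w.2

end Groth.FibrewiseCrit
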