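import Mathlib
import Groth.Agent.FibrewiseCrit.Basic

/-!
# The unramified locus of a morphism

`fuLocus f` is the set of points at which the stalk map is formally unramified. For `f` locally of
finite type it is open, it is the largest open on which `f` is formally unramified, and it commutes
with arbitrary base change.
-/

universe u

open AlgebraicGeometry CategoryTheory Limits TensorProduct

namespace Groth.FibrewiseCrit

set_option linter.style.haveILetI false
set_option backward.isDefEq.respectTransparency false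

variable {X Y : Scheme.{u}}

/-- Points with formally unramified stalk map. -/
def fuLocus (f : X ⟶ Y) : Set X := {x | (f.stalkMap x).hom.FormallyUnramified}

theorem mem_fuLocus_comp_left {W : Scheme.{u}} (k : W ⟶ X) [IsOpenImmersion k] (f : X ⟶ Y) (w : W) :
    w ∈ fuLocus (k ≫ f) ↔ k w ∈ fuLocus f := by
  show ((k ≫ f).stalkMap w).hom.FormallyUnramified ↔ (f.stalkMap (k w)).hom.FormallyUnramified
  rw [Scheme.Hom.stalkMap_comp, CommRingCat.hom_comp,
    RingHom.FormallyUnramified.respectsIso.cancel_right_isIso]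

theorem mem_fuLocus_comp_right {Z : Scheme.{u}} (f : X ⟶ Y) (j : Y ⟶ Z) [IsOpenImmersion j] (x : X) :
    x ∈ fuLocus (f ≫ j) ↔ x ∈ fuLocus f := by
  show ((f ≫ j).stalkMap x).hom.FormallyUnramified ↔ (f.stalkMap x).hom.FormallyUnramified
  rw [Scheme.Hom.stalkMap_comp, CommRingCat.hom_comp,
    RingHom.FormallyUnramified.respectsIso.cancel_left_isIso]

theorem mem_fuLocus_Spec {R A : CommRingCat.{u}} (φ : R ⟶ A) (q : PrimeSpectrum A) :
    q ∈ fuLocus (Spec.map φ) ↔
      (letI := φ.hom.toAlgebra; q ∈ Algebra.unramifiedLocus R A) := by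
  letI := φ.hom.toAlgebra
  let p := (q.comap φ.hom).asIdeal
  haveI : q.asIdeal.LiesOver p := ⟨rfl⟩
  letI := Localization.AtPrime.algebraOfLiesOver p q.asIdeal
  trans Algebra.FormallyUnramified (Localization.AtPrime p) (Localization.AtPrime q.asIdeal)
  · rw [← RingHom.formallyUnramified_algebraMap]
    exact RingHom.FormallyUnramified.respectsIso.arrow_mk_iso_iff (Scheme.arrowStalkMapSpecIso φ q)
  · constructor
    · intro h
      haveI : Algebra.FormallyUnramified R (Localization.AtPrime p) :=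
        .of_isLocalization p.primeCompl
      exact Algebra.FormallyUnramified.comp R (Localization.AtPrime p) _
    · intro (h : Algebra.IsUnramifiedAt R q.asIdeal)
      exact inferInstance

/-- Affine chart computation. -/
theorem fromSpec_mem_fuLocus (f : X ⟶ Y) {U : Y.Opens} (hU : IsAffineOpen U) {V : X.Opens}
    (hV : IsAffineOpen V) (e : V ≤ f ⁻¹ᵁ U) (q : PrimeSpectrum Γ(X, V)) :
    hV.fromSpec q ∈ fuLocus f ↔
      (letI := (f.appLE U V e).hom.toAlgebra; q ∈ Algebra.unramifiedLocus Γ(Y, U) Γ(X, V)) := by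
  rw [← mem_fuLocus_Spec (f.appLE U V e) q, ← mem_fuLocus_comp_right (Spec.map _) hU.fromSpec,
    IsAffineOpen.SpecMap_appLE_fromSpec f hU hV e, mem_fuLocus_comp_left]

theorem isOpen_fuLocus (f : X ⟶ Y) [LocallyOfFiniteType f] : IsOpen (fuLocus f) := by
  refine isOpen_iff_forall_mem_open.mpr fun x hx => ?_
  obtain ⟨_, ⟨U, hU, rfl⟩, hxU, -⟩ :=
    Y.isBasis_affineOpens.exists_subset_of_mem_open (Set.mem_univ (f x)) isOpen_univ
  obtain ⟨_, ⟨V, hV, rfl⟩, hxV, hVU⟩ :=
    X.isBasis_affineOpens.exists_subset_of_mem_open hxU (U.2.preimage f.continuous)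
  have hVU' : V ≤ f ⁻¹ᵁ U := hVU
  have hft := HasRingHomProperty.appLE @LocallyOfFiniteType f inferInstance ⟨U, hU⟩ ⟨V, hV⟩ hVU'
  letI := (f.appLE U V hVU').hom.toAlgebra
  haveI : Algebra.FiniteType Γ(Y, U) Γ(X, V) := hft
  refine ⟨hV.fromSpec '' (Algebra.unramifiedLocus Γ(Y, U) Γ(X, V)), ?_, ?_, ?_⟩
  · rintro _ ⟨q, hq, rfl⟩
    exact (fromSpec_mem_fuLocus f hU hV hVU' q).mpr hq
  · exact hV.fromSpec.isOpenEmbedding.isOpenMap _ Algebra.isOpen_unramifiedLocus
  · obtain ⟨q, rfl⟩ : x ∈ Set.range hV.fromSpec := by rw [hV.range_fromSpec]; exact hxV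
    exact ⟨q, (fromSpec_mem_fuLocus f hU hV hVU' q).mp hx, rfl⟩

theorem formallyUnramified_iff_forall_mem_fuLocus (f : X ⟶ Y) :
    FormallyUnramified f ↔ ∀ x, x ∈ fuLocus f := by
  refine ⟨fun _ x => FormallyUnramified.stalkMap f x, fun H => ?_⟩
  haveI : MorphismProperty.RespectsRight @FormallyUnramified @IsOpenImmersion :=
    ⟨fun i hi f hf => (haveI : IsOpenImmersion i := hi; MorphismProperty.comp_mem @FormallyUnramified f i hf inferInstance)⟩
  refine IsZariskiLocalAtSource.iff_exists_resLE.mpr fun x => ?_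
  obtain ⟨_, ⟨U, hU, rfl⟩, hxU, -⟩ :=
    Y.isBasis_affineOpens.exists_subset_of_mem_open (Set.mem_univ (f x)) isOpen_univ
  obtain ⟨_, ⟨V, hV, rfl⟩, hxV, hVU⟩ :=
    X.isBasis_affineOpens.exists_subset_of_mem_open hxU (U.2.preimage f.continuous)
  refine ⟨U, V, hxV, hVU, ?_⟩
  haveI : IsAffine _ := hU
  haveI : IsAffine _ := hV
  rw [HasRingHomProperty.iff_of_isAffine (P := @FormallyUnramified)]
  refine (RingHom.FormallyUnramified.respectsIso.arrow_mk_iso_iff (arrowResLEAppIso f U V hVU)).mpr ?_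
  letI := (f.appLE U V hVU).hom.toAlgebra
  refine (Algebra.formallyUnramified_iff_forall (R := Γ(Y, U)) (A := Γ(X, V))).mpr fun q => ?_
  exact (fromSpec_mem_fuLocus f hU hV hVU q).mp (H _)

/-- Formally unramified near `x` iff formally unramified stalk map at `x`. -/
theorem exists_nhd_formallyUnramified_iff (f : X ⟶ Y) [LocallyOfFiniteType f] (x : X) :
    (∃ U : X.Opens, x ∈ U ∧ FormallyUnramified (U.ι ≫ f)) ↔ x ∈ fuLocus f := by
  constructor
  · rintro ⟨U, hxU, hU⟩
    obtain ⟨w, rfl⟩ : x ∈ Set.range U.ι := by rw [Scheme.Opens.range_ι]; exact hxU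
    exact (mem_fuLocus_comp_left U.ι f w).mp ((formallyUnramified_iff_forall_mem_fuLocus _).mp hU w)
  · intro hx
    refine ⟨⟨_, isOpen_fuLocus f⟩, hx, (formallyUnramified_iff_forall_mem_fuLocus _).mpr fun w => ?_⟩
    exact (mem_fuLocus_comp_left _ f w).mpr w.2

theorem nontrivial_field_baseChange {K L : Type u} [Field K] [Field L] [Algebra K L] (M : Type u)
    [AddCommGroup M] [Module K M] : Nontrivial (L ⊗[K] M) ↔ Nontrivial M :=
  Module.FaithfullyFlat.nontrivial_tensorProduct_iff_right K L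

/-- Support of a base-changed finite module. -/
theorem support_baseChange {A B : Type u} [CommRing A] [CommRing B] [Algebra A B]
    (M : Type u) [AddCommGroup M] [Module A M] [Module.Finite A M] (q : PrimeSpectrum B) :
    q ∈ Module.support B (B ⊗[A] M) ↔ q.comap (algebraMap A B) ∈ Module.support A M := by
  rw [Module.mem_support_iff_nontrivial_residueField_tensorProduct,
    Module.mem_support_iff_nontrivial_residueField_tensorProduct]
  let p := (q.comap (algebraMap A B)).asIdeal
  haveI : q.asIdeal.LiesOver p := ⟨rfl⟩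
  let K := p.ResidueField
  let L := q.asIdeal.ResidueField
  letI : Algebra K L := (Ideal.ResidueField.map p q.asIdeal (algebraMap A B) rfl).toAlgebra
  haveI : IsScalarTower A K L := IsScalarTower.of_algebraMap_eq fun a => by
    rw [RingHom.algebraMap_toAlgebra, Ideal.ResidueField.map_algebraMap, ← IsScalarTower.algebraMap_apply]
  rw [(AlgebraTensorModule.cancelBaseChange A B L L M).nontrivial_congr,
    ]
  refine (TensorProduct.AlgebraTensorModule.cancelBaseChange A K L L M).nontrivial_congr.symm.trans ?_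
  exact nontrivial_field_baseChange (K := K) (L := L) _

attribute [local instance] Algebra.TensorProduct.rightAlgebra in
theorem unramifiedLocus_tensorProduct (R A T : Type u) [CommRing R] [CommRing A] [CommRing T]
    [Algebra R A] [Algebra R T] [Algebra.FiniteType R A] (q : PrimeSpectrum (A ⊗[R] T)) :
    q ∈ Algebra.unramifiedLocus T (A ⊗[R] T) ↔
      q.comap (algebraMap A (A ⊗[R] T)) ∈ Algebra.unramifiedLocus R A := by
  rw [Algebra.unramifiedLocus_eq_compl_support, Algebra.unramifiedLocus_eq_compl_support,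
    Set.mem_compl_iff, Set.mem_compl_iff, ← support_baseChange,
    (KaehlerDifferential.tensorKaehlerEquiv R T A (A ⊗[R] T)).support_eq]

/-- The unramified locus commutes with base change. -/
theorem mem_fuLocus_snd {Z : Scheme.{u}} (f : X ⟶ Y) [LocallyOfFiniteType f] (g : Z ⟶ Y)
    (x' : ↑(pullback f g)) :
    x' ∈ fuLocus (pullback.snd f g) ↔ pullback.fst f g x' ∈ fuLocus f := by
  obtain ⟨_, ⟨U, hU, rfl⟩, hxU, -⟩ := Y.isBasis_affineOpens.exists_subset_of_mem_open
    (Set.mem_univ (f (pullback.fst f g x'))) isOpen_univ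
  obtain ⟨_, ⟨V, hV, rfl⟩, hxV, eV⟩ :=
    X.isBasis_affineOpens.exists_subset_of_mem_open hxU (U.2.preimage f.continuous)
  have hzU : g (pullback.snd f g x') ∈ U := by
    rw [← Scheme.Hom.comp_apply, ← pullback.condition, Scheme.Hom.comp_apply]; exact hxU
  obtain ⟨_, ⟨W, hW, rfl⟩, hzW, eW⟩ :=
    Z.isBasis_affineOpens.exists_subset_of_mem_open hzU (U.2.preimage g.continuous)
  let φ := f.appLE U V eV
  let ψ := g.appLE U W eW
  let m : pullback (Spec.map φ) (Spec.map ψ) ⟶ pullback f g :=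
    pullback.map _ _ _ _ hV.fromSpec hW.fromSpec hU.fromSpec
      (IsAffineOpen.SpecMap_appLE_fromSpec f hU hV eV) (IsAffineOpen.SpecMap_appLE_fromSpec g hU hW eW)
  obtain ⟨z, rfl⟩ : x' ∈ Set.range m := by
    rw [Scheme.Pullback.range_map]
    exact ⟨by rw [hV.range_fromSpec]; exact hxV, by rw [hW.range_fromSpec]; exact hzW⟩
  have h1 : m ≫ pullback.fst f g = pullback.fst _ _ ≫ hV.fromSpec := pullback.lift_fst _ _ _
  have h2 : m ≫ pullback.snd f g = pullback.snd _ _ ≫ hW.fromSpec := pullback.lift_snd _ _ _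
  rw [← mem_fuLocus_comp_left m, h2, mem_fuLocus_comp_right, ← Scheme.Hom.comp_apply, h1,
    Scheme.Hom.comp_apply, fromSpec_mem_fuLocus f hU hV eV]
  have hft := HasRingHomProperty.appLE @LocallyOfFiniteType f inferInstance ⟨U, hU⟩ ⟨V, hV⟩ eV
  letI := φ.hom.toAlgebra
  letI := ψ.hom.toAlgebra
  haveI : Algebra.FiniteType Γ(Y, U) Γ(X, V) := hft
  let e := pullbackSpecIso Γ(Y, U) Γ(X, V) Γ(Z, W)
  obtain ⟨q, rfl⟩ : ∃ q, e.inv q = z := ⟨e.hom z, by rw [← Scheme.Hom.comp_apply, e.hom_inv_id]; rfl⟩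
  erw [← mem_fuLocus_comp_left e.inv, pullbackSpecIso_inv_snd, mem_fuLocus_Spec,
    ← Scheme.Hom.comp_apply, pullbackSpecIso_inv_fst']
  letI := Algebra.TensorProduct.rightAlgebra (R := Γ(Y, U)) (A := Γ(X, V)) (B := Γ(Z, W))
  exact unramifiedLocus_tensorProduct Γ(Y, U) Γ(X, V) Γ(Z, W) q

theorem mem_fuLocus_of_isPullback {X' Z : Scheme.{u}} {f : X ⟶ Y} [LocallyOfFiniteType f]
    {g : Z ⟶ Y} {f' : X' ⟶ Z} {g' : X' ⟶ X} (h : IsPullback g' f' f g) (x' : X') :
    x' ∈ fuLocus f' ↔ g' x' ∈ fuLocus f := by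
  rw [← h.isoPullback_hom_snd, mem_fuLocus_comp_left, mem_fuLocus_snd, ← Scheme.Hom.comp_apply,
    h.isoPullback_hom_fst]

/-- The fibre map over `S` is the base change along the inclusion of the fibre. -/
theorem isPullback_fiberMap {S : Scheme.{u}} {f : X ⟶ Y} {g : Y ⟶ S} {h : X ⟶ S} (w : f ≫ g = h) (s : S)
    (φ : h.fiber s ⟶ g.fiber s) (h1 : φ ≫ g.fiberι s = h.fiberι s ≫ f)
    (h2 : φ ≫ g.fiberToSpecResidueField s = h.fiberToSpecResidueField s) :
    IsPullback (h.fiberι s) φ f (g.fiberι s) := by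
  refine IsPullback.of_bot ?_ h1.symm (IsPullback.of_hasPullback g (S.fromSpecResidueField s))
  have h2' : φ ≫ pullback.snd g (S.fromSpecResidueField s) = pullback.snd h (S.fromSpecResidueField s) := h2
  rw [h2', w]
  exact IsPullback.of_hasPullback h (S.fromSpecResidueField s)

end Groth.FibrewiseCrit
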