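import Mathlib
import Groth.Agent.FibrewiseCrit.Unramified

/-!
# The smooth locus and base change

The smooth locus of a morphism locally of finite presentation commutes with flat base change.
-/

universe u

open AlgebraicGeometry CategoryTheory Limits TensorProduct

namespace Groth.FibrewiseCrit

set_option linter.style.haveILetI false
set_option backward.isDefEq.respectTransparency false

/-! ### Algebra -/

/-- Localising a base change is base changing a localisation, for modules. -/
theorem tensor_localization_equiv {A B Ap Bq : Type u} [CommRing A] [CommRing B] [CommRing Ap] [CommRing Bq]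
    [Algebra A B] [Algebra A Ap] [Algebra B Bq] [Algebra A Bq] [Algebra Ap Bq]
    [IsScalarTower A B Bq] [IsScalarTower A Ap Bq] (M : Type u) [AddCommGroup M] [Module A M] :
    Nonempty (Bq ⊗[B] (B ⊗[A] M) ≃ₗ[Bq] Bq ⊗[Ap] (Ap ⊗[A] M)) :=
  ⟨AlgebraTensorModule.cancelBaseChange A B Bq Bq M ≪≫ₗ
    (AlgebraTensorModule.cancelBaseChange A Ap Bq Bq M).symm⟩

theorem mem_support_iff_tensor {A : Type u} [CommRing A] (M : Type u) [AddCommGroup M] [Module A M]
    (p : PrimeSpectrum A) (Ap : Type u) [CommRing Ap] [Algebra A Ap]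
    [IsLocalization.AtPrime Ap p.asIdeal] : p ∈ Module.support A M ↔ Nontrivial (Ap ⊗[A] M) := by
  rw [Module.mem_support_iff]
  exact (IsLocalizedModule.iso p.asIdeal.primeCompl (TensorProduct.mk A Ap M 1)).toEquiv.nontrivial_congr

/-- Smoothness at a prime is tested after a flat base change of the base ring. -/
theorem smoothLocus_baseChange_of_flat (R T A : Type u) [CommRing R] [CommRing T] [CommRing A]
    [Algebra R T] [Algebra R A] [Module.Flat R T] [Algebra.FinitePresentation R A]
    (q : PrimeSpectrum (T ⊗[R] A)) :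
    q ∈ Algebra.smoothLocus T (T ⊗[R] A) ↔
      q.comap (Algebra.TensorProduct.includeRight : A →ₐ[R] T ⊗[R] A).toRingHom ∈ Algebra.smoothLocus R A := by
  letI : Algebra A (T ⊗[R] A) := Algebra.TensorProduct.rightAlgebra
  haveI : Module.Flat A (T ⊗[R] A) := by
    let e : A ⊗[R] T ≃ₐ[A] T ⊗[R] A :=
      { __ := Algebra.TensorProduct.comm R A T, commutes' := fun _ => rfl }
    exact Module.Flat.of_linearEquiv e.toLinearEquiv.symm
  let B := T ⊗[R] A
  let p := q.comap (algebraMap A B)
  let Ap := Localization.AtPrime p.asIdeal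
  let Bq := Localization.AtPrime q.asIdeal
  haveI : q.asIdeal.LiesOver p.asIdeal := ⟨rfl⟩
  letI : Algebra Ap Bq := Localization.AtPrime.algebraOfLiesOver p.asIdeal q.asIdeal
  haveI : Module.Flat Ap Bq := by
    haveI : Module.Flat B Bq := IsLocalization.flat Bq q.asIdeal.primeCompl
    haveI : Module.Flat A Bq := Module.Flat.trans A B Bq
    exact (Module.flat_iff_of_isLocalization Ap p.asIdeal.primeCompl Bq).mpr inferInstance
  haveI : IsLocalHom (algebraMap Ap Bq) := inferInstance
  haveI : Module.FaithfullyFlat Ap Bq := Module.FaithfullyFlat.of_flat_of_isLocalHom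
  -- the base change of `H1`
  let h := (Algebra.H1Cotangent.map R T A B).liftBaseChange B
  have hh : Function.Bijective h := by
    let e := (Algebra.IsPushout.cancelBaseChange R T A B (Algebra.H1Cotangent R A)).trans
      (Algebra.tensorH1CotangentOfFlat R A T)
    have : (h.restrictScalars T) ∘ₗ (Algebra.IsPushout.cancelBaseChange R T A B (Algebra.H1Cotangent R A)).symm.toLinearMap
        = (Algebra.tensorH1CotangentOfFlat R A T).toLinearMap := by
      refine TensorProduct.AlgebraTensorModule.ext fun t x => ?_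
      have h1 : (Algebra.IsPushout.cancelBaseChange R T A B (Algebra.H1Cotangent R A)).symm (1 ⊗ₜ x) = 1 ⊗ₜ x :=
        (LinearEquiv.symm_apply_eq _).mpr (Algebra.IsPushout.cancelBaseChange_tmul _ _ _ _ _ x).symm
      have h5 : t ⊗ₜ[R] x = t • ((1 : T) ⊗ₜ[R] x) := by rw [TensorProduct.smul_tmul', smul_eq_mul, mul_one]
      rw [h5, map_smul, map_smul]
      congr 1
      simp only [LinearMap.coe_comp, LinearMap.coe_restrictScalars, LinearEquiv.coe_coe, Function.comp_apply, h1, h, LinearMap.liftBaseChange_tmul, one_smul]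
      exact ((Algebra.tensorH1CotangentOfFlat_tmul R A T 1 x).trans (one_smul _ _)).symm
    have hb : Function.Bijective ((h.restrictScalars T) ∘ₗ
        (Algebra.IsPushout.cancelBaseChange R T A B (Algebra.H1Cotangent R A)).symm.toLinearMap) := by
      rw [this]; exact (Algebra.tensorH1CotangentOfFlat R A T).bijective
    rw [LinearMap.coe_comp] at hb
    exact (Function.Bijective.of_comp_iff _ (LinearEquiv.bijective _)).mp hb
  have eH := (LinearEquiv.ofBijective h hh).support_eq
  have eΩ := Module.freeLocus_congr (KaehlerDifferential.tensorKaehlerEquiv R T A B)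
  rw [Algebra.smoothLocus_eq_compl_support_inter, Algebra.smoothLocus_eq_compl_support_inter]
  simp only [Set.mem_inter_iff, Set.mem_compl_iff]
  rw [← eH, ← eΩ]
  refine and_congr (not_congr ?_) ?_
  · show _ ↔ p ∈ _
    rw [mem_support_iff_tensor _ q Bq, mem_support_iff_tensor _ p Ap]
    obtain ⟨e⟩ := tensor_localization_equiv (A := A) (B := B) (Ap := Ap) (Bq := Bq) (Algebra.H1Cotangent R A)
    rw [e.toEquiv.nontrivial_congr]
    exact Module.FaithfullyFlat.nontrivial_tensorProduct_iff_right Ap Bq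
  · show _ ↔ p ∈ _
    rw [Module.mem_freeLocus_iff_tensor q Bq, Module.mem_freeLocus_iff_tensor p Ap]
    obtain ⟨e⟩ := tensor_localization_equiv (A := A) (B := B) (Ap := Ap) (Bq := Bq) Ω[A⁄R]
    rw [Module.Free.iff_of_equiv e]
    constructor
    · intro hfree
      haveI : Module.Flat Bq (Bq ⊗[Ap] (Ap ⊗[A] Ω[A⁄R])) := inferInstance
      haveI : Module.Flat Ap (Ap ⊗[A] Ω[A⁄R]) := Module.Flat.of_flat_tensorProduct _ _ Bq
      exact Module.free_of_flat_of_isLocalRing
    · intro _
      infer_instance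

/-! ### Schemes -/

variable {X Y : Scheme.{u}}

theorem mem_smoothLocus_comp_left {W : Scheme.{u}} (k : W ⟶ X) [IsOpenImmersion k] (f : X ⟶ Y)
    [LocallyOfFinitePresentation f] (w : W) :
    w ∈ (k ≫ f).smoothLocus ↔ k w ∈ f.smoothLocus := by
  rw [← Scheme.Hom.preimage_smoothLocus_eq]; rfl

theorem mem_smoothLocus_comp_right {Z : Scheme.{u}} (f : X ⟶ Y) [LocallyOfFinitePresentation f]
    (j : Y ⟶ Z) [IsOpenImmersion j] (x : X) :
    x ∈ (f ≫ j).smoothLocus ↔ x ∈ f.smoothLocus := by
  show ((f ≫ j).stalkMap x).hom.FormallySmooth ↔ (f.stalkMap x).hom.FormallySmooth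
  rw [Scheme.Hom.stalkMap_comp, CommRingCat.hom_comp,
    RingHom.FormallySmooth.respectsIso.cancel_left_isIso]

theorem mem_smoothLocus_Spec {R A : CommRingCat.{u}} (φ : R ⟶ A) [LocallyOfFinitePresentation (Spec.map φ)]
    (q : PrimeSpectrum A) :
    q ∈ (Spec.map φ).smoothLocus ↔ (letI := φ.hom.toAlgebra; q ∈ Algebra.smoothLocus R A) := by
  letI := φ.hom.toAlgebra
  let p := (q.comap φ.hom).asIdeal
  haveI : q.asIdeal.LiesOver p := ⟨rfl⟩
  letI := Localization.AtPrime.algebraOfLiesOver p q.asIdeal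
  trans Algebra.FormallySmooth (Localization.AtPrime p) (Localization.AtPrime q.asIdeal)
  · rw [← RingHom.formallySmooth_algebraMap]
    exact RingHom.FormallySmooth.respectsIso.arrow_mk_iso_iff (Scheme.arrowStalkMapSpecIso φ q)
  · exact Algebra.FormallySmooth.iff_restrictScalars.symm

theorem fromSpec_mem_smoothLocus (f : X ⟶ Y) [LocallyOfFinitePresentation f] {U : Y.Opens}
    (hU : IsAffineOpen U) {V : X.Opens} (hV : IsAffineOpen V) (e : V ≤ f ⁻¹ᵁ U) (q : PrimeSpectrum Γ(X, V)) :
    hV.fromSpec q ∈ f.smoothLocus ↔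
      (letI := (f.appLE U V e).hom.toAlgebra; q ∈ Algebra.smoothLocus Γ(Y, U) Γ(X, V)) := by
  haveI : LocallyOfFinitePresentation (Spec.map (f.appLE U V e)) :=
    HasRingHomProperty.Spec_iff.mpr (f.finitePresentation_appLE hU hV e)
  rw [← mem_smoothLocus_Spec (f.appLE U V e) q, ← mem_smoothLocus_comp_right (Spec.map _) hU.fromSpec,
    ← mem_smoothLocus_comp_left hV.fromSpec f]
  simp only [IsAffineOpen.SpecMap_appLE_fromSpec f hU hV e]

/-- The smooth locus commutes with flat base change. -/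
theorem mem_smoothLocus_fst {Z : Scheme.{u}} (g : Z ⟶ Y) [Flat g] (f : X ⟶ Y) [LocallyOfFinitePresentation f]
    (x' : ↑(pullback g f)) :
    x' ∈ (pullback.fst g f).smoothLocus ↔ pullback.snd g f x' ∈ f.smoothLocus := by
  obtain ⟨_, ⟨U, hU, rfl⟩, hxU, -⟩ := Y.isBasis_affineOpens.exists_subset_of_mem_open
    (Set.mem_univ (f (pullback.snd g f x'))) isOpen_univ
  obtain ⟨_, ⟨V, hV, rfl⟩, hxV, eV⟩ :=
    X.isBasis_affineOpens.exists_subset_of_mem_open hxU (U.2.preimage f.continuous)
  have hzU : g (pullback.fst g f x') ∈ U := by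
    rw [← Scheme.Hom.comp_apply, pullback.condition, Scheme.Hom.comp_apply]; exact hxU
  obtain ⟨_, ⟨W, hW, rfl⟩, hzW, eW⟩ :=
    Z.isBasis_affineOpens.exists_subset_of_mem_open hzU (U.2.preimage g.continuous)
  let φ := f.appLE U V eV
  let ψ := g.appLE U W eW
  let m : pullback (Spec.map ψ) (Spec.map φ) ⟶ pullback g f :=
    pullback.map _ _ _ _ hW.fromSpec hV.fromSpec hU.fromSpec
      (IsAffineOpen.SpecMap_appLE_fromSpec g hU hW eW) (IsAffineOpen.SpecMap_appLE_fromSpec f hU hV eV)
  obtain ⟨z, rfl⟩ : x' ∈ Set.range m := by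
    rw [Scheme.Pullback.range_map]
    exact ⟨by rw [hW.range_fromSpec]; exact hzW, by rw [hV.range_fromSpec]; exact hxV⟩
  have h1 : m ≫ pullback.snd g f = pullback.snd _ _ ≫ hV.fromSpec := pullback.lift_snd _ _ _
  have h2 : m ≫ pullback.fst g f = pullback.fst _ _ ≫ hW.fromSpec := pullback.lift_fst _ _ _
  haveI : LocallyOfFinitePresentation (Spec.map φ) :=
    HasRingHomProperty.Spec_iff.mpr (f.finitePresentation_appLE hU hV eV)
  rw [← mem_smoothLocus_comp_left m]
  simp only [h2]
  rw [mem_smoothLocus_comp_right, ← Scheme.Hom.comp_apply, h1, Scheme.Hom.comp_apply,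
    fromSpec_mem_smoothLocus f hU hV eV]
  have hfl := HasRingHomProperty.appLE @Flat g inferInstance ⟨U, hU⟩ ⟨W, hW⟩ eW
  have hfp := f.finitePresentation_appLE hU hV eV
  letI := φ.hom.toAlgebra
  letI := ψ.hom.toAlgebra
  haveI : Algebra.FinitePresentation Γ(Y, U) Γ(X, V) := hfp
  haveI : Module.Flat Γ(Y, U) Γ(Z, W) := hfl
  let e := pullbackSpecIso Γ(Y, U) Γ(Z, W) Γ(X, V)
  obtain ⟨q, rfl⟩ : ∃ q, e.inv q = z := ⟨e.hom z, by rw [← Scheme.Hom.comp_apply, e.hom_inv_id]; rfl⟩
  haveI : LocallyOfFinitePresentation (pullback.fst (Spec.map ψ) (Spec.map φ)) := inferInstance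
  erw [← mem_smoothLocus_comp_left e.inv]
  have h3 : e.inv ≫ pullback.fst (Spec.map ψ) (Spec.map φ) = Spec.map (CommRingCat.ofHom (algebraMap Γ(Z, W) _)) :=
    pullbackSpecIso_inv_fst' _ _ _
  have h4 : e.inv ≫ pullback.snd (Spec.map ψ) (Spec.map φ) = _ := pullbackSpecIso_inv_snd _ _ _
  simp only [h3]
  erw [mem_smoothLocus_Spec, ← Scheme.Hom.comp_apply, h4]
  convert smoothLocus_baseChange_of_flat Γ(Y, U) Γ(Z, W) Γ(X, V) q using 2
  · congr 1; exact Algebra.algebra_ext _ _ fun _ => rfl
  · rfl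

theorem mem_smoothLocus_of_isPullback {X' Z : Scheme.{u}} {f : X ⟶ Y} [LocallyOfFinitePresentation f]
    {g : Z ⟶ Y} [Flat g] {f' : X' ⟶ Z} [LocallyOfFinitePresentation f'] {g' : X' ⟶ X}
    (h : IsPullback g' f' f g) (x' : X') : x' ∈ f'.smoothLocus ↔ g' x' ∈ f.smoothLocus := by
  have := h.flip
  rw [← this.isoPullback_hom_snd, Scheme.Hom.comp_apply, ← mem_smoothLocus_fst,
    ← mem_smoothLocus_comp_left]
  simp only [this.isoPullback_hom_fst]

end Groth.FibrewiseCrit
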