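import Mathlib
import Groth.Agent.FibrewiseCrit.Smooth

/-!
# Pointwise fibre criteria for smoothness
-/

universe u

open AlgebraicGeometry CategoryTheory Limits

namespace Groth.FibrewiseCrit

set_option linter.style.haveILetI false
set_option backward.isDefEq.respectTransparency false

variable {X Y : Scheme.{u}}

theorem smooth_comp_of_forall_mem {W : Scheme.{u}} (k : W ⟶ X) [IsOpenImmersion k] (f : X ⟶ Y)
    [LocallyOfFinitePresentation f] (h : ∀ w, k w ∈ f.smoothLocus) : Smooth (k ≫ f) :=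
  Scheme.Hom.smoothLocus_eq_top_iff.mp
    (top_le_iff.mp fun w _ => (mem_smoothLocus_comp_left k f w).mpr (h w))

theorem exists_nhd_smooth_iff (f : X ⟶ Y) [LocallyOfFinitePresentation f] (x : X) :
    (∃ U : X.Opens, x ∈ U ∧ Smooth (U.ι ≫ f)) ↔ x ∈ f.smoothLocus := by
  constructor
  · rintro ⟨U, hxU, hU⟩
    obtain ⟨w, rfl⟩ : x ∈ Set.range U.ι := by rw [Scheme.Opens.range_ι]; exact hxU
    rw [← mem_smoothLocus_comp_left U.ι f w, Scheme.Hom.smoothLocus_eq_top]
    trivial
  · exact fun hx => ⟨f.smoothLocus, hx, smooth_comp_of_forall_mem _ f fun w => w.2⟩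

theorem flat_stalkMap_of_mem_smoothLocus (f : X ⟶ Y) [LocallyOfFinitePresentation f] (x : X)
    (hx : x ∈ f.smoothLocus) : (f.stalkMap x).hom.Flat := by
  haveI := smooth_comp_of_forall_mem f.smoothLocus.ι f fun w => w.2
  obtain ⟨w, rfl⟩ : x ∈ Set.range f.smoothLocus.ι := by rw [Scheme.Opens.range_ι]; exact hx
  have h := Flat.stalkMap (f.smoothLocus.ι ≫ f) w
  rwa [Scheme.Hom.stalkMap_comp, CommRingCat.hom_comp,
    RingHom.Flat.respectsIso.cancel_right_isIso] at h

/-- Smoothness at a point is stable under base change. -/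
theorem mem_smoothLocus_baseChange {X' Z : Scheme.{u}} {f : X ⟶ Y} [LocallyOfFinitePresentation f]
    {g : Z ⟶ Y} {f' : X' ⟶ Z} [LocallyOfFinitePresentation f'] {g' : X' ⟶ X}
    (h : IsPullback g' f' f g) (x' : X') (hx : g' x' ∈ f.smoothLocus) : x' ∈ f'.smoothLocus := by
  haveI := smooth_comp_of_forall_mem f.smoothLocus.ι f fun w => w.2
  have := MorphismProperty.of_isPullback (P := @Smooth)
    ((isPullback_morphismRestrict g' f.smoothLocus).paste_vert h) inferInstance
  exact (exists_nhd_smooth_iff f' x').mp ⟨_, hx, this⟩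

/-- A flat morphism is smooth at the points of a smooth fibre. -/
theorem mem_smoothLocus_of_flat_of_smooth_fibre (f : X ⟶ Y) [LocallyOfFinitePresentation f] [Flat f]
    (x : X) [Smooth (f.fiberToSpecResidueField (f x))] : x ∈ f.smoothLocus := by
  obtain ⟨_, ⟨U, hU, rfl⟩, hxU, -⟩ :=
    Y.isBasis_affineOpens.exists_subset_of_mem_open (Set.mem_univ (f x)) isOpen_univ
  obtain ⟨_, ⟨V, hV, rfl⟩, hxV, hVU⟩ :=
    X.isBasis_affineOpens.exists_subset_of_mem_open hxU (U.2.preimage f.continuous)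
  have eV : V ≤ f ⁻¹ᵁ U := hVU
  obtain ⟨q, rfl⟩ : x ∈ Set.range hV.fromSpec := by rw [hV.range_fromSpec]; exact hxV
  rw [fromSpec_mem_smoothLocus f hU hV eV]
  have hfl := HasRingHomProperty.appLE @Flat f inferInstance ⟨U, hU⟩ ⟨V, hV⟩ eV
  have hfp := f.finitePresentation_appLE hU hV eV
  letI := (f.appLE U V eV).hom.toAlgebra
  haveI : Algebra.FinitePresentation Γ(Y, U) Γ(X, V) := hfp
  haveI : Module.Flat Γ(Y, U) Γ(X, V) := hfl
  let p := PrimeSpectrum.comap (algebraMap Γ(Y, U) Γ(X, V)) q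
  haveI : q.asIdeal.LiesOver p.asIdeal := ⟨rfl⟩
  let g := Spec.map (CommRingCat.ofHom (algebraMap Γ(Y, U) Γ(X, V)))
  let j := (Spec Γ(Y, U)).fromSpecResidueField p
  have hgb : g ≫ hU.fromSpec = hV.fromSpec ≫ f := IsAffineOpen.SpecMap_appLE_fromSpec f hU hV eV
  have hp : hU.fromSpec p = f (hV.fromSpec q) := by
    rw [← Scheme.Hom.comp_apply, ← hgb]
    rfl
  have h1 : Smooth (pullback.snd f (Y.fromSpecResidueField (hU.fromSpec p))) := by
    rw [hp]; exact inferInstanceAs (Smooth (f.fiberToSpecResidueField _))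
  have h2 : Smooth (pullback.snd f (j ≫ hU.fromSpec)) := by
    rw [← hU.fromSpec.SpecMap_residueFieldMap_fromSpecResidueField p]
    exact of_snd_comp f _ _ h1
  have h3 : Smooth (pullback.snd (g ≫ hU.fromSpec) (j ≫ hU.fromSpec)) := by
    rw [hgb]
    have h4 : Smooth (pullback.snd hV.fromSpec (pullback.fst f (j ≫ hU.fromSpec)) ≫
        pullback.snd f (j ≫ hU.fromSpec)) :=
      MorphismProperty.comp_mem @Smooth _ _ inferInstance h2
    rw [← pullbackRightPullbackFstIso_hom_snd f (j ≫ hU.fromSpec) hV.fromSpec] at h4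
    exact (MorphismProperty.cancel_left_of_respectsIso @Smooth _ _).mp h4
  have sq1 : IsPullback (𝟙 _) g (g ≫ hU.fromSpec) hU.fromSpec := by
    refine ⟨⟨by simp⟩, ⟨PullbackCone.IsLimit.mk _ (fun t => t.fst) (fun t => by simp) (fun t => ?_)
      (fun t v hv _ => by simpa using hv)⟩⟩
    rw [← cancel_mono hU.fromSpec]
    simp [t.condition]
  have sq := ((IsPullback.of_hasPullback g j).paste_horiz sq1)
  have h5 : Smooth (g.fiberToSpecResidueField p) := by
    show Smooth (pullback.snd g j)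
    rw [← sq.isoPullback_hom_snd]
    exact (MorphismProperty.cancel_left_of_respectsIso @Smooth _ _).mpr h3
  rw [MorphismProperty.arrow_mk_iso_iff (P := @Smooth) (Spec.fiberToSpecResidueFieldIso _ _ p),
    HasRingHomProperty.Spec_iff (P := @Smooth)] at h5
  haveI : Algebra.FormallySmooth p.asIdeal.ResidueField (p.asIdeal.Fiber Γ(X, V)) :=
    RingHom.formallySmooth_algebraMap.mp (RingHom.Smooth.formallySmooth h5)
  exact Algebra.IsSmoothAt.of_formallySmooth_fiber p.asIdeal q.asIdeal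

/-- Smoothness at a point from flatness at the point and smoothness of the fibre at the point. -/
theorem mem_smoothLocus_of_flat_of_fibre (f : X ⟶ Y) [LocallyOfFinitePresentation f] (x : X)
    (hflat : (f.stalkMap x).hom.Flat) (y : Y) [LocallyOfFinitePresentation (f.fiberToSpecResidueField y)]
    (z : f.fiber y) (hz : f.fiberι y z = x) (hs : z ∈ (f.fiberToSpecResidueField y).smoothLocus) :
    x ∈ f.smoothLocus := by
  obtain rfl : f x = y := by
    have : f.fiberι y z ∈ f ⁻¹' {y} := by rw [← f.range_fiberι]; exact ⟨z, rfl⟩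
    rw [hz] at this; exact this
  obtain ⟨O, hO, hOs⟩ := (f.fiberι (f x)).isEmbedding.isInducing.isOpen_iff.mp
    (f.fiberToSpecResidueField (f x)).smoothLocus.isOpen
  have hxO : x ∈ O := by
    rw [← hz, ← Set.mem_preimage, hOs]; exact hs
  let U : X.Opens := ⟨{x | (f.stalkMap x).hom.Flat} ∩ O, (FlatDescent.isOpen_flatLocus_hom f).inter hO⟩
  obtain ⟨w, hw⟩ : x ∈ Set.range U.ι := by rw [Scheme.Opens.range_ι]; exact ⟨hflat, hxO⟩
  haveI : Flat (U.ι ≫ f) := (Flat.iff_flat_stalkMap _).mpr fun v => by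
    rw [Scheme.Hom.stalkMap_comp, CommRingCat.hom_comp, RingHom.Flat.respectsIso.cancel_right_isIso]
    exact v.2.1
  haveI : Smooth ((U.ι ≫ f).fiberToSpecResidueField ((U.ι ≫ f) w)) := by
    have hy : (U.ι ≫ f) w = f x := by rw [Scheme.Hom.comp_apply, hw]
    rw [hy]
    show Smooth (pullback.snd (U.ι ≫ f) (Y.fromSpecResidueField (f x)))
    refine (MorphismProperty.cancel_left_of_respectsIso @Smooth
      (pullbackRightPullbackFstIso f (Y.fromSpecResidueField (f x)) U.ι).hom _).mp ?_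
    rw [pullbackRightPullbackFstIso_hom_snd]
    refine smooth_comp_of_forall_mem _ (f.fiberToSpecResidueField (f x)) fun v => ?_
    show pullback.snd U.ι (f.fiberι (f x)) v ∈ _
    have : f.fiberι (f x) (pullback.snd U.ι (f.fiberι (f x)) v) ∈ O := by
      rw [← Scheme.Hom.comp_apply, ← pullback.condition, Scheme.Hom.comp_apply]
      exact (pullback.fst U.ι (f.fiberι (f x)) v).2.2
    rw [← Set.mem_preimage, hOs] at this
    exact this
  have := mem_smoothLocus_of_flat_of_smooth_fibre (U.ι ≫ f) w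
  rwa [mem_smoothLocus_comp_left, hw] at this

instance locallyOfFinitePresentation_fiberToSpecResidueField (f : X ⟶ Y) [LocallyOfFinitePresentation f] (y : Y) :
    LocallyOfFinitePresentation (f.fiberToSpecResidueField y) :=
  inferInstanceAs (LocallyOfFinitePresentation (pullback.snd f _))

/-- Any morphism to the spectrum of a field is flat. -/
theorem flat_Spec_map_of_field {K L : Type u} [Field K] [CommRing L] (φ : CommRingCat.of K ⟶ CommRingCat.of L) :
    Flat (Spec.map φ) := by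
  rw [HasRingHomProperty.Spec_iff (P := @Flat)]
  algebraize [φ.hom]
  exact inferInstanceAs (Module.Flat K L)

theorem mem_smoothLocus_iff_flat_and_fibre (f : X ⟶ Y) [LocallyOfFinitePresentation f] (x : X) :
    x ∈ f.smoothLocus ↔
      (f.stalkMap x).hom.Flat ∧ f.asFiber x ∈ (f.fiberToSpecResidueField (f x)).smoothLocus := by
  refine ⟨fun hx => ⟨flat_stalkMap_of_mem_smoothLocus f x hx, ?_⟩,
    fun h => mem_smoothLocus_of_flat_of_fibre f x h.1 _ _ (f.fiberι_asFiber x) h.2⟩
  refine mem_smoothLocus_baseChange (g' := f.fiberι (f x)) (g := Y.fromSpecResidueField (f x))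
    (IsPullback.of_hasPullback f _) _ ?_
  rwa [Scheme.Hom.fiberι_asFiber]

/-- For a flat morphism the smooth locus commutes with arbitrary base change. -/
theorem mem_smoothLocus_of_isPullback_of_flat {X' Z : Scheme.{u}} {f : X ⟶ Y}
    [LocallyOfFinitePresentation f] [Flat f] {g : Z ⟶ Y} {f' : X' ⟶ Z}
    [LocallyOfFinitePresentation f'] {g' : X' ⟶ X} (h : IsPullback g' f' f g) (x' : X') :
    x' ∈ f'.smoothLocus ↔ g' x' ∈ f.smoothLocus := by
  refine ⟨fun hx => ?_, mem_smoothLocus_baseChange h x'⟩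
  have hs := ((mem_smoothLocus_iff_flat_and_fibre f' x').mp hx).2
  have sq := isPullback_fiberToSpecResidueField_of_isPullback h (f' x')
  haveI : Flat (Spec.map (g.residueFieldMap (f' x'))) := flat_Spec_map_of_field _
  rw [mem_smoothLocus_of_isPullback sq] at hs
  refine mem_smoothLocus_of_flat_of_fibre f (g' x') (Flat.stalkMap f _) _ _ ?_ hs
  refine (Scheme.Hom.comp_apply _ _ _).symm.trans ?_
  have : pullback.map f' (Z.fromSpecResidueField (f' x')) f (Y.fromSpecResidueField (g (f' x'))) g'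
      (Spec.map (g.residueFieldMap (f' x'))) g h.w.symm (by simp) ≫ f.fiberι (g (f' x')) =
        f'.fiberι (f' x') ≫ g' := pullback.lift_fst _ _ _
  refine ((congr($this (f'.asFiber x'))).trans ?_)
  rw [Scheme.Hom.comp_apply, Scheme.Hom.fiberι_asFiber]

/-- Pointwise fibre criterion of smoothness over a base. -/
theorem mem_smoothLocus_iff_fiberMap {S : Scheme.{u}} (f : X ⟶ Y) (g : Y ⟶ S)
    [LocallyOfFinitePresentation (f ≫ g)] [LocallyOfFiniteType g] [LocallyOfFinitePresentation f]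
    (x : X) (hflat : ((f ≫ g).stalkMap x).hom.Flat) (φ : (f ≫ g).fiber ((f ≫ g) x) ⟶ g.fiber ((f ≫ g) x))
    [LocallyOfFinitePresentation φ]
    (hsq : IsPullback ((f ≫ g).fiberι ((f ≫ g) x)) φ f (g.fiberι ((f ≫ g) x)))
    (x' : (f ≫ g).fiber ((f ≫ g) x)) (hx' : (f ≫ g).fiberι _ x' = x) :
    x ∈ f.smoothLocus ↔ x' ∈ φ.smoothLocus := by
  refine ⟨fun hx => mem_smoothLocus_baseChange hsq x' (by rwa [hx']), fun hs => ?_⟩
  have hfib := (FlatDescent.flat_fiberMap_iff f g _ φ hsq.w.symm x').mp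
    (flat_stalkMap_of_mem_smoothLocus φ x' hs)
  rw [hx'] at hfib
  have hf := (FlatDescent.flat_of_fibFlat f g x hflat hfib).2
  let j : Spec (Y.residueField (f x)) ⟶ g.fiber ((f ≫ g) x) := g.asFiberHom (f x)
  have hj : j ≫ g.fiberι ((f ≫ g) x) = Y.fromSpecResidueField (f x) := g.asFiberHom_fiberι (f x)
  have sq0 : IsPullback (f.fiberι (f x)) (f.fiberToSpecResidueField (f x)) f (j ≫ g.fiberι ((f ≫ g) x)) := by
    rw [hj]; exact IsPullback.of_hasPullback f _
  let k := hsq.lift (f.fiberι (f x)) (f.fiberToSpecResidueField (f x) ≫ j) (by rw [sq0.w, Category.assoc])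
  have hk : k ≫ (f ≫ g).fiberι ((f ≫ g) x) = f.fiberι (f x) := hsq.lift_fst _ _ _
  have sq : IsPullback k (f.fiberToSpecResidueField (f x)) φ j :=
    IsPullback.of_right (by rw [hk]; exact sq0) (hsq.lift_snd _ _ _) hsq
  refine mem_smoothLocus_of_flat_of_fibre f x hf _ _ (f.fiberι_asFiber x) (mem_smoothLocus_baseChange sq _ ?_)
  convert hs
  apply ((f ≫ g).fiberι ((f ≫ g) x)).isEmbedding.injective
  rw [← Scheme.Hom.comp_apply, hk, Scheme.Hom.fiberι_asFiber, hx']

theorem exists_nhd_etale_iff (f : X ⟶ Y) [LocallyOfFinitePresentation f] (x : X) :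
    (∃ U : X.Opens, x ∈ U ∧ Etale (U.ι ≫ f)) ↔ x ∈ f.smoothLocus ∧ x ∈ fuLocus f := by
  constructor
  · rintro ⟨U, hx, hU⟩
    exact ⟨(exists_nhd_smooth_iff f x).mp ⟨U, hx, inferInstance⟩,
      (exists_nhd_formallyUnramified_iff f x).mp ⟨U, hx, inferInstance⟩⟩
  · intro h
    let U : X.Opens := f.smoothLocus ⊓ ⟨fuLocus f, isOpen_fuLocus f⟩
    haveI : Smooth (U.ι ≫ f) := smooth_comp_of_forall_mem _ f fun w => w.2.1
    haveI : FormallyUnramified (U.ι ≫ f) :=
      (formallyUnramified_iff_forall_mem_fuLocus _).mpr fun w => (mem_fuLocus_comp_left _ f w).mpr w.2.2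
    exact ⟨U, h, Etale.of_formallyUnramified_of_flat _⟩

end Groth.FibrewiseCrit
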