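import Mathlib
import Groth.Agent.CotLib.SmoothRegular
import Groth.Agent.GrpSchField.SmoothCriterion
import Groth.Agent.GrpSchField.Dim
import Groth.Agent.GrpSchField.Subgroup
import Groth.Agent.FibrewiseCrit.Pointwise

/-!
# Regularity at the unit of a group scheme over a field
-/

universe u

open CategoryTheory CategoryTheory.Limits MonoidalCategory CartesianMonoidalCategory MonObj GrpObj AlgebraicGeometry

namespace Groth.FibrewiseCrit

set_option linter.style.haveILetI false
set_option backward.isDefEq.respectTransparency false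

variable {k : Type u} [Field k] {X : Scheme.{u}} (f : X ⟶ Spec (CommRingCat.of k))

/-- A rational point is smooth iff its local ring is regular. -/
theorem mem_smoothLocus_iff_regular_of_section [LocallyOfFinitePresentation f]
    (u : Spec (CommRingCat.of k) ⟶ X) (hu : u ≫ f = 𝟙 _) (p : Spec (CommRingCat.of k)) :
    u p ∈ f.smoothLocus ↔ IsRegularLocalRing (X.presheaf.stalk (u p)) := by
  obtain ⟨_, ⟨V, hV, rfl⟩, hpV, -⟩ :=
    X.isBasis_affineOpens.exists_subset_of_mem_open (Set.mem_univ (u p)) isOpen_univ
  obtain ⟨q, hq⟩ : u p ∈ Set.range hV.fromSpec := by rw [hV.range_fromSpec]; exact hpV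
  let ψ : CommRingCat.of k ⟶ Γ(X, V) := Spec.preimage (hV.fromSpec ≫ f)
  have hψ : Spec.map ψ = hV.fromSpec ≫ f := Spec.map_preimage _
  haveI : LocallyOfFinitePresentation (Spec.map ψ) := by rw [hψ]; infer_instance
  letI := ψ.hom.toAlgebra
  have hfp : ψ.hom.FinitePresentation := HasRingHomProperty.Spec_iff.mp ‹LocallyOfFinitePresentation (Spec.map ψ)›
  haveI : Algebra.FinitePresentation k Γ(X, V) := hfp
  have h1 : u p ∈ f.smoothLocus ↔ q ∈ Algebra.smoothLocus k Γ(X, V) := by
    refine Iff.trans ?_ (mem_smoothLocus_Spec ψ q)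
    rw [← hq, ← mem_smoothLocus_comp_left hV.fromSpec f]
    simp only [hψ]
  have hrange : Set.range u ⊆ Set.range hV.fromSpec := by
    rintro _ ⟨p', rfl⟩
    rw [Subsingleton.elim (α := PrimeSpectrum k) p' p, hV.range_fromSpec]
    exact hpV
  obtain ⟨χ, hχ⟩ := Spec.map_surjective (IsOpenImmersion.lift hV.fromSpec u hrange)
  have hqχ : Spec.map χ p = q := by
    apply hV.fromSpec.isOpenEmbedding.injective
    rw [← Scheme.Hom.comp_apply, hχ, IsOpenImmersion.lift_fac, hq]
  have hψχ : ψ ≫ χ = 𝟙 _ := by
    apply Spec.map_injective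
    rw [Spec.map_comp, Spec.map_id, hψ, ← Category.assoc, hχ, IsOpenImmersion.lift_fac, hu]
  haveI : Algebra.IsGeometricallyReduced k q.asIdeal.ResidueField := by
    let χ' : Γ(X, V) →ₐ[k] k := { χ.hom with commutes' := fun c => congr($(hψχ) c) }
    have hker : q.asIdeal = RingHom.ker χ.hom := by
      rw [← hqχ]
      show Ideal.comap χ.hom (p : PrimeSpectrum k).asIdeal = _
      rw [(Ideal.eq_bot_or_top (p : PrimeSpectrum k).asIdeal).resolve_right (p : PrimeSpectrum k).isPrime.ne_top]
      rfl
    have hsurj : Function.Surjective (algebraMap k q.asIdeal.ResidueField) := by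
      haveI : q.asIdeal.IsMaximal := by
        rw [hker]; exact RingHom.ker_isMaximal_of_surjective _ fun c => ⟨ψ.hom c, congr($(hψχ) c)⟩
      intro y
      obtain ⟨a, rfl⟩ := Ideal.algebraMap_residueField_surjective q.asIdeal y
      refine ⟨χ.hom a, ?_⟩
      rw [IsScalarTower.algebraMap_apply k Γ(X, V) q.asIdeal.ResidueField, ← sub_eq_zero, ← map_sub,
        Ideal.algebraMap_residueField_eq_zero, hker, RingHom.mem_ker, map_sub, sub_eq_zero]
      exact χ'.commutes _
    let e : k ≃ₐ[k] q.asIdeal.ResidueField :=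
      AlgEquiv.ofBijective (Algebra.ofId k _) ⟨(algebraMap k q.asIdeal.ResidueField).injective, hsurj⟩
    haveI : Algebra.IsGeometricallyReduced k k := by
      rw [Algebra.isGeometricallyReduced_field_iff]
      exact isReduced_of_injective (Algebra.TensorProduct.rid k k (AlgebraicClosure k)).toAlgHom
        (Algebra.TensorProduct.rid k k (AlgebraicClosure k)).injective
    exact Algebra.IsGeometricallyReduced.of_injective e.symm.toAlgHom e.symm.injective
  refine h1.trans ((Groth.Agent.CotLib.isSmoothAt_iff_regular q.asIdeal).trans ?_)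
  rw [← hq]
  let e : Localization.AtPrime q.asIdeal ≃+* X.presheaf.stalk (hV.fromSpec q) :=
    ((StructureSheaf.stalkIso Γ(X, V) q).toRingEquiv).trans
      (asIso (hV.fromSpec.stalkMap q)).commRingCatIsoToRingEquiv.symm
  exact ⟨fun h => .of_ringEquiv e, fun h => .of_ringEquiv e.symm⟩

variable {G : Over (Spec (CommRingCat.of k))} [GrpObj G] [LocallyOfFiniteType G.hom]

/-- The unit of a group scheme over a field is a closed point. -/
theorem isClosed_unit : IsClosed ({η[G].left (IsLocalRing.closedPoint k)} : Set G.left) := by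
  let u : Spec (CommRingCat.of k) ⟶ G.left := η[G].left
  have h : u ≫ G.hom = 𝟙 _ := Over.w η[G]
  haveI : IsSeparated G.hom := Groth.Agent.GrpSchField.isSeparated_hom
  haveI : IsClosedImmersion u := by
    have : IsClosedImmersion (u ≫ G.hom) := by rw [h]; infer_instance
    exact IsClosedImmersion.of_comp u G.hom
  have := u.isClosedEmbedding.isClosed_range
  rwa [show Set.range u = {u (IsLocalRing.closedPoint k)} from Set.eq_singleton_iff_unique_mem.mpr
    ⟨⟨_, rfl⟩, fun y ⟨p, hp⟩ => hp ▸ congrArg u (Subsingleton.elim (α := PrimeSpectrum k) p _)⟩] at this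

theorem smooth_of_mem_smoothLocus_unit
    (h : η[G].left (IsLocalRing.closedPoint k) ∈ G.hom.smoothLocus) : Smooth G.hom :=
  haveI := smooth_comp_of_forall_mem G.hom.smoothLocus.ι G.hom fun w => w.2
  Groth.Agent.GrpSchField.smooth_of_smooth_open G G.hom.smoothLocus ⟨_, h⟩

theorem smooth_iff_regular_unit :
    Smooth G.hom ↔ IsRegularLocalRing (G.left.presheaf.stalk (η[G].left (IsLocalRing.closedPoint k))) := by
  refine Iff.trans ?_ (mem_smoothLocus_iff_regular_of_section G.hom η[G].left (Over.w η[G]) (IsLocalRing.closedPoint k))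
  exact ⟨fun _ => by rw [Scheme.Hom.smoothLocus_eq_top]; trivial, smooth_of_mem_smoothLocus_unit⟩

/-- The dimension of a group scheme over a field is that of the local ring at the unit. -/
theorem topologicalKrullDim_eq_stalk_unit :
    topologicalKrullDim G.left = ringKrullDim (G.left.presheaf.stalk (η[G].left (IsLocalRing.closedPoint k))) := by
  haveI : JacobsonSpace G.left := LocallyOfFiniteType.jacobsonSpace G.hom
  rw [ringKrullDim_stalk_eq_coheight, topologicalKrullDim,
    Order.krullDim_eq_of_orderIso (irreducibleSetEquivPoints (α := G.left))]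
  refine le_antisymm ?_ (Order.coheight_le_krullDim _)
  rw [Order.krullDim_eq_iSup_coheight]
  refine iSup_le fun x => WithBot.coe_le_coe.mpr ?_
  obtain ⟨z, hz, hzc⟩ := nonempty_inter_closedPoints (Z := closure ({x} : Set G.left))
    ⟨x, subset_closure rfl⟩ isClosed_closure.isLocallyClosed
  have hzx : z ≤ x := specializes_iff_mem_closure.mpr hz
  exact (Order.coheight_anti hzx).trans_eq (Groth.Agent.GrpSchField.coheight_closed_eq G hzc isClosed_unit)

end Groth.FibrewiseCrit
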