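import Mathlib
import Groth.Agent.FibrewiseCrit.GrpRegular
import Groth.Agent.FppfSource.Scheme
import Groth.Agent.SourceDescent.Basic
import Groth.Agent.J2Lib.Descent

/-!
Smoothness descends along fppf coverings of the source.
-/

open CategoryTheory CategoryTheory.Limits AlgebraicGeometry Groth.FibrewiseCrit

universe u

namespace Groth.Agent.FibrewiseCrit

theorem smooth_iff_forall_mem {X Y : Scheme.{u}} (f : X ⟶ Y) [LocallyOfFinitePresentation f] :
    Smooth f ↔ ∀ x, x ∈ f.smoothLocus := by
  rw [← Scheme.Hom.smoothLocus_eq_top_iff]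
  exact ⟨fun h x => h ▸ trivial, fun h => eq_top_iff.mpr fun x _ => h x⟩

theorem smooth_of_fppf_comp_of_isAlgClosed {k : Type u} [Field k] [IsAlgClosed k] {X Y : Scheme.{u}}
    (f : X ⟶ Y) (q : Y ⟶ Spec (CommRingCat.of k)) [Surjective f] [Flat f]
    [LocallyOfFinitePresentation f] [LocallyOfFinitePresentation q] [Smooth (f ≫ q)] : Smooth q := by
  haveI : IsLocallyNoetherian Y := LocallyOfFiniteType.isLocallyNoetherian q
  haveI : JacobsonSpace Y := LocallyOfFiniteType.jacobsonSpace q
  haveI : JacobsonSpace X := LocallyOfFiniteType.jacobsonSpace (f ≫ q)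
  have key : ∀ y : Y, IsClosed ({y} : Set Y) → y ∈ q.smoothLocus := fun y hy => by
    obtain ⟨x, hx, hxc⟩ := nonempty_inter_closedPoints (Z := f ⁻¹' {y}) (f.surjective y)
      ((hy.preimage f.continuous).isLocallyClosed)
    have hfx : f x = y := hx
    let p : ↥(Spec (CommRingCat.of k)) := IsLocalRing.closedPoint k
    have key2 : ∀ {W : Scheme.{u}} (g : W ⟶ Spec (CommRingCat.of k)) [LocallyOfFinitePresentation g] (w : W)
        (hw : IsClosed ({w} : Set W)), w ∈ g.smoothLocus ↔ IsRegularLocalRing (W.presheaf.stalk w) := by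
      intro W g _ w hw
      have h := mem_smoothLocus_iff_regular_of_section _ _ (pointOfClosedPoint_comp g w hw) p
      have e : ∀ w', w' = w → ((w' ∈ g.smoothLocus ↔ IsRegularLocalRing (W.presheaf.stalk w')) →
          (w ∈ g.smoothLocus ↔ IsRegularLocalRing (W.presheaf.stalk w))) := by
        rintro _ rfl h; exact h
      exact e _ (pointOfClosedPoint_apply g w hw p) h
    rw [key2 q y hy]
    haveI hX : IsRegularLocalRing (X.presheaf.stalk x) :=
      (key2 (f ≫ q) x hxc).mp (by rw [Scheme.Hom.smoothLocus_eq_top]; trivial)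
    subst hfx
    letI := (f.stalkMap x).hom.toAlgebra
    haveI : Module.Flat (Y.presheaf.stalk (f x)) (X.presheaf.stalk x) := Flat.stalkMap f x
    haveI : IsLocalHom (algebraMap (Y.presheaf.stalk (f x)) (X.presheaf.stalk x)) :=
      inferInstanceAs (IsLocalHom (f.stalkMap x).hom)
    exact @J2Lib.isRegularLocalRing_of_flat _ (X.presheaf.stalk x) _ _ _ _ hX _ _ _
  rw [smooth_iff_forall_mem]
  intro y
  by_contra hy
  obtain ⟨z, hz, hzc⟩ := nonempty_inter_closedPoints (Z := (q.smoothLocus : Set Y)ᶜ) ⟨y, hy⟩
    (q.smoothLocus.isOpen.isClosed_compl.isLocallyClosed)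
  exact hz (key z hzc)

theorem smooth_of_fppf_comp_of_field {k : Type u} [Field k] {X Y : Scheme.{u}}
    (f : X ⟶ Y) (q : Y ⟶ Spec (CommRingCat.of k)) [Surjective f] [Flat f]
    [LocallyOfFinitePresentation f] [LocallyOfFinitePresentation q] [Smooth (f ≫ q)] : Smooth q := by
  let K := AlgebraicClosure k
  let φ : Spec (CommRingCat.of K) ⟶ Spec (CommRingCat.of k) :=
    Spec.map (CommRingCat.ofHom (algebraMap k K))
  haveI : Flat φ := flat_Spec_map_of_field _
  haveI : Surjective φ := ⟨fun p => ⟨IsLocalRing.closedPoint K, Subsingleton.elim _ _⟩⟩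
  let f' := pullback.snd f (pullback.fst q φ)
  haveI : Smooth (f' ≫ pullback.snd q φ) := by
    have h : IsPullback (pullback.fst f (pullback.fst q φ)) (f' ≫ pullback.snd q φ) (f ≫ q) φ :=
      (IsPullback.of_hasPullback f (pullback.fst q φ)).paste_vert (IsPullback.of_hasPullback q φ)
    exact MorphismProperty.of_isPullback h ‹Smooth (f ≫ q)›
  haveI := smooth_of_fppf_comp_of_isAlgClosed f' (pullback.snd q φ)
  rw [smooth_iff_forall_mem]
  intro y
  obtain ⟨y', rfl⟩ := (pullback.fst q φ).surjective y
  exact (mem_smoothLocus_of_isPullback_of_flat (IsPullback.of_hasPullback q φ) y').mp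
    ((smooth_iff_forall_mem _).mp ‹_› y')

/-- Smoothness descends along fppf coverings of the source. -/
theorem smooth_of_fppf_comp {X Y S : Scheme.{u}} (f : X ⟶ Y) (q : Y ⟶ S) [Surjective f] [Flat f]
    [LocallyOfFinitePresentation f] [Smooth (f ≫ q)] : Smooth q := by
  haveI : Flat q := SourceDescent.flat_of_comp f q
  haveI : LocallyOfFinitePresentation q := FppfSource.locallyOfFinitePresentation_of_comp f q
  exact Smooth.of_smooth_fiberToSpecResidueField q fun s => by
    haveI : LocallyOfFinitePresentation (q.fiberToSpecResidueField s) := locallyOfFinitePresentation_fiberToSpecResidueField q s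
    let f' := pullback.snd f (q.fiberι s)
    haveI : Smooth (f' ≫ q.fiberToSpecResidueField s) := by
      have h : IsPullback (pullback.fst f (q.fiberι s)) (f' ≫ q.fiberToSpecResidueField s) (f ≫ q)
          (S.fromSpecResidueField s) :=
        (IsPullback.of_hasPullback f (q.fiberι s)).paste_vert (IsPullback.of_hasPullback q _)
      exact MorphismProperty.of_isPullback h ‹Smooth (f ≫ q)›
    exact @smooth_of_fppf_comp_of_field _ _ _ _ f' (q.fiberToSpecResidueField s) inferInstance inferInstance inferInstance (locallyOfFinitePresentation_fiberToSpecResidueField q s) ‹_›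

end Groth.Agent.FibrewiseCrit
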