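import Mathlib
import Groth.Agent.FibrewiseCrit.Pointwise
import Groth.Agent.GrpSchField.Shear

/-!
# Loci of a homomorphism of group schemes are unions of fibres
-/

universe u

open CategoryTheory CategoryTheory.Limits MonoidalCategory CartesianMonoidalCategory MonObj GrpObj AlgebraicGeometry

namespace Groth.FibrewiseCrit

set_option linter.style.haveILetI false
set_option backward.isDefEq.respectTransparency false

open Groth.Agent.GrpSchField

variable {S : Scheme.{u}} {G H : Over S}

theorem isPullback_whiskerRight (f : G ⟶ H) :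
    IsPullback (fst G G).left (f ▷ G).left f.left (fst H G).left := by
  have h1 : (f ▷ G).left ≫ (fst H G).left = (fst G G).left ≫ f.left := by
    rw [← Over.comp_left, ← Over.comp_left, whiskerRight_fst]
  have h2 : (f ▷ G).left ≫ (snd H G).left = (snd G G).left := by
    rw [← Over.comp_left, whiskerRight_snd]
  refine IsPullback.of_bot (h₂₁ := (fst H G).left) (v₂₁ := (snd H G).left) (v₂₂ := H.hom) (h₃₁ := G.hom)
    ?_ h1.symm (IsPullback.of_hasPullback H.hom G.hom)
  rw [h2, Over.w f]
  exact IsPullback.of_hasPullback G.hom G.hom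

/-- A pointwise locus of a homomorphism which is invariant under isomorphisms and commutes with the
base change along `fst : H ⊗ G ⟶ H` is a union of fibres. -/
theorem locus_saturated [GrpObj G] [GrpObj H] (f : G ⟶ H) [IsMonHom f]
    (L : ∀ {X Y : Scheme.{u}}, (X ⟶ Y) → Set X)
    (hleft : ∀ (k : (G ⊗ G).left ⟶ (G ⊗ G).left) [IsIso k] (w : (G ⊗ G).left),
      w ∈ L (k ≫ (f ▷ G).left) ↔ k w ∈ L (f ▷ G).left)
    (hright : ∀ (j : (H ⊗ G).left ⟶ (H ⊗ G).left) [IsIso j] (w : (G ⊗ G).left),
      w ∈ L ((f ▷ G).left ≫ j) ↔ w ∈ L (f ▷ G).left)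
    (hbc : ∀ w : (G ⊗ G).left, w ∈ L (f ▷ G).left ↔ (fst G G).left w ∈ L f.left)
    {x y : G.left} (h : G.hom x = G.hom y) (hx : x ∈ L f.left) : y ∈ L f.left := by
  obtain ⟨z', h1, h2⟩ := Scheme.Pullback.exists_preimage_pullback (f := G.hom) (g := G.hom) x y h
  let z := (shearL (𝟙 G)).inv.left z'
  have hz1 : (fst G G).left z = x := by
    rw [← Scheme.Hom.comp_apply, ← Over.comp_left,
      show (shearL (𝟙 G)).inv ≫ fst G G = fst G G by simp [shearL]]
    exact h1
  have hz2 : μ[G].left z = y := by
    rw [← Scheme.Hom.comp_apply, ← Over.comp_left]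
    have : (shearL (𝟙 G)).inv ≫ μ[G] = snd G G := by rw [Iso.inv_comp_eq, shearL_snd]; simp
    rw [this]
    exact h2
  let ψ : H ⊗ G ≅ H ⊗ G :=
    { hom := lift (fst H G * (snd H G ≫ f)) (snd H G)
      inv := lift (fst H G * (snd H G ≫ f)⁻¹) (snd H G)
      hom_inv_id := by apply CartesianMonoidalCategory.hom_ext <;> simp [comp_mul, comp_inv, _root_.mul_assoc]
      inv_hom_id := by apply CartesianMonoidalCategory.hom_ext <;> simp [comp_mul, comp_inv, _root_.mul_assoc] }
  have he : (shearR (G := G)).hom ≫ f ▷ G = f ▷ G ≫ ψ.hom := by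
    apply CartesianMonoidalCategory.hom_ext
    · rw [Category.assoc, Category.assoc, whiskerRight_fst]
      simp only [shearR, ψ, lift_fst, lift_fst_assoc]
      rw [show (fst G G * snd G G) ≫ f = (fst G G ≫ f) * (snd G G ≫ f) from map_mul (IsMonHom.monoidHom f _) _ _]
      simp [comp_mul]
    · simp [shearR, ψ]
  haveI := isIso_left (shearR (G := G))
  haveI := isIso_left ψ
  have hw : z ∈ L (f ▷ G).left := (hbc z).mpr (by rwa [hz1])
  rw [← hright ψ.hom.left, ← Over.comp_left, ← he, Over.comp_left, hleft, hbc,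
    ← Scheme.Hom.comp_apply, ← Over.comp_left] at hw
  have : (shearR (G := G)).hom ≫ fst G G = μ[G] := by simp [shearR, Hom.mul_def]
  rwa [this, hz2] at hw

/-- Base change of a homomorphism to the fibre over a point. -/
theorem isPullback_fibreHom' (f : G ⟶ H) (s : S) :
    IsPullback (pullback.fst G.hom (S.fromSpecResidueField s)) ((Over.pullback (S.fromSpecResidueField s)).map f).left
      f.left (H.hom.fiberι s) :=
  isPullback_fiberMap (g := H.hom) (h := G.hom) (Over.w f) s _ (pullback.lift_fst _ _ _) (pullback.lift_snd _ _ _)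

/-- A property of the fibre homomorphism which is given by a pointwise locus: the set of good base
points is open and the locus is its preimage. -/
theorem isOpen_setOf_fibreHom [GrpObj G] (f : G ⟶ H) (P : MorphismProperty Scheme.{u}) (L : Set G.left) (hLo : IsOpen L)
    (hsat : ∀ {x y : G.left}, G.hom x = G.hom y → x ∈ L → y ∈ L)
    (hP : ∀ s : S, P ((Over.pullback (S.fromSpecResidueField s)).map f).left ↔
      ∀ z : G.hom.fiber s, G.hom.fiberι s z ∈ L) :
    IsOpen {s : S | P ((Over.pullback (S.fromSpecResidueField s)).map f).left} ∧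
    L = G.hom.base ⁻¹' {s : S | P ((Over.pullback (S.fromSpecResidueField s)).map f).left} := by
  have he : ∀ s : S, G.hom (η[G].left s) = s := fun s => by
    rw [← Scheme.Hom.comp_apply]
    exact congr($(Over.w η[G]) s)
  have key : ∀ x : G.left, x ∈ L ↔ P ((Over.pullback (S.fromSpecResidueField (G.hom x))).map f).left := by
    intro x
    rw [hP]
    constructor
    · intro hx z
      refine hsat ?_ hx
      have : G.hom.fiberι (G.hom x) z ∈ G.hom ⁻¹' {G.hom x} := by
        rw [← Scheme.Hom.range_fiberι]; exact ⟨z, rfl⟩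
      exact (this : G.hom _ = G.hom x).symm
    · intro h
      simpa using h (G.hom.asFiber x)
  have hU : {s : S | P ((Over.pullback (S.fromSpecResidueField s)).map f).left} = η[G].left ⁻¹' L := by
    ext s
    rw [Set.mem_setOf_eq, Set.mem_preimage, key, he]
  exact ⟨hU ▸ hLo.preimage η[G].left.continuous, Set.ext key⟩

theorem mem_smoothLocus_fibreHom_iff (f : G ⟶ H) [LocallyOfFinitePresentation G.hom] [LocallyOfFiniteType H.hom]
    [LocallyOfFinitePresentation f.left] [Flat G.hom] (s : S)
    [LocallyOfFinitePresentation ((Over.pullback (S.fromSpecResidueField s)).map f).left]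
    (z : G.hom.fiber s) :
    z ∈ ((Over.pullback (S.fromSpecResidueField s)).map f).left.smoothLocus ↔ G.hom.fiberι s z ∈ f.left.smoothLocus := by
  haveI : LocallyOfFinitePresentation (f.left ≫ H.hom) := by rw [Over.w f]; infer_instance
  haveI : Flat (f.left ≫ H.hom) := by rw [Over.w f]; infer_instance
  refine ⟨fun hs => ?_, mem_smoothLocus_baseChange (isPullback_fibreHom' f s) z⟩
  obtain ⟨x, hx⟩ : ∃ x, G.hom.fiberι s z = x := ⟨_, rfl⟩
  rw [hx]
  obtain rfl : (f.left ≫ H.hom) x = s := by
    rw [Over.w f]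
    have : x ∈ G.hom ⁻¹' {s} := by rw [← Scheme.Hom.range_fiberι]; exact ⟨z, hx⟩
    exact this
  let c : (f.left ≫ H.hom).fiber ((f.left ≫ H.hom) x) ≅ G.hom.fiber ((f.left ≫ H.hom) x) :=
    pullback.congrHom (f₁ := f.left ≫ H.hom) (g₁ := S.fromSpecResidueField ((f.left ≫ H.hom) x)) (Over.w f) rfl
  let φ : (f.left ≫ H.hom).fiber ((f.left ≫ H.hom) x) ⟶ H.hom.fiber ((f.left ≫ H.hom) x) :=
    c.hom ≫ ((Over.pullback (S.fromSpecResidueField ((f.left ≫ H.hom) x))).map f).left
  have hc : c.hom ≫ G.hom.fiberι _ = (f.left ≫ H.hom).fiberι ((f.left ≫ H.hom) x) :=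
    (pullback.lift_fst _ _ _).trans (Category.comp_id _)
  have hsq : IsPullback ((f.left ≫ H.hom).fiberι ((f.left ≫ H.hom) x)) φ f.left (H.hom.fiberι ((f.left ≫ H.hom) x)) :=
    IsPullback.of_iso (isPullback_fibreHom' f _) c.symm (Iso.refl _) (Iso.refl _) (Iso.refl _)
      (by rw [Iso.symm_hom, ← hc, Iso.inv_hom_id_assoc, Iso.refl_hom]; exact Category.comp_id _)
      (by simp [φ]) (by simp) (by simp)
  haveI : LocallyOfFinitePresentation φ := MorphismProperty.of_isPullback hsq inferInstance
  have hz : c.hom (c.inv z) = z := by rw [← Scheme.Hom.comp_apply, Iso.inv_hom_id]; rfl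
  refine (mem_smoothLocus_iff_fiberMap f.left H.hom x (Flat.stalkMap _ _) φ hsq (c.inv z) ?_).mpr ?_
  · rw [← hc, Scheme.Hom.comp_apply, hz]; exact hx
  · exact (mem_smoothLocus_comp_left c.hom _ _).mpr (by rwa [hz])

section Instances

variable [GrpObj G] [GrpObj H] (f : G ⟶ H) [IsMonHom f]

theorem fuLocus_saturated [LocallyOfFiniteType f.left] {x y : G.left} (h : G.hom x = G.hom y)
    (hx : x ∈ fuLocus f.left) : y ∈ fuLocus f.left :=
  locus_saturated f (fun φ => fuLocus φ) (fun k _ w => mem_fuLocus_comp_left k _ w)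
    (fun j _ w => mem_fuLocus_comp_right _ j w)
    (fun w => mem_fuLocus_of_isPullback (isPullback_whiskerRight f) w) h hx

theorem smoothLocus_saturated [LocallyOfFinitePresentation f.left] [Flat G.hom] {x y : G.left}
    (h : G.hom x = G.hom y) (hx : x ∈ f.left.smoothLocus) : y ∈ f.left.smoothLocus :=
  locus_saturated f (fun φ => {x | (φ.stalkMap x).hom.FormallySmooth})
    (fun k _ w => by
      show (((k ≫ (f ▷ G).left).stalkMap w).hom.FormallySmooth) ↔ _
      rw [Scheme.Hom.stalkMap_comp, CommRingCat.hom_comp, RingHom.FormallySmooth.respectsIso.cancel_right_isIso]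
      rfl)
    (fun j _ w => by
      show ((((f ▷ G).left ≫ j).stalkMap w).hom.FormallySmooth) ↔ _
      rw [Scheme.Hom.stalkMap_comp, CommRingCat.hom_comp, RingHom.FormallySmooth.respectsIso.cancel_left_isIso]
      rfl)
    (fun w => by
      haveI : LocallyOfFinitePresentation (f ▷ G).left := MorphismProperty.of_isPullback (isPullback_whiskerRight f) inferInstance
      haveI : Flat (fst H G).left := inferInstanceAs (Flat (pullback.fst H.hom G.hom))
      exact mem_smoothLocus_of_isPullback (isPullback_whiskerRight f) w) h hx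

end Instances

end Groth.FibrewiseCrit
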