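import Mathlib
import Groth.Prelude.Def_SGA3x
import Groth.Agent.FibrewiseCrit.Group

/-!
# Groups of multiplicative type are locally of finite type; monomorphisms from the fibres
-/

universe u

open CategoryTheory CategoryTheory.Limits MonoidalCategory CartesianMonoidalCategory MonObj GrpObj AlgebraicGeometry

namespace Groth.FibrewiseCrit

set_option linter.style.haveILetI false
set_option backward.isDefEq.respectTransparency false

theorem locallyOfFiniteType_DS (S : Scheme.{u}) (M : Type) [AddCommGroup M] (hM : AddGroup.FG M) :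
    LocallyOfFiniteType (Red.DS S M).hom := by
  haveI : AddMonoid.FG M := AddGroup.fg_iff_addMonoid_fg.mp hM
  haveI : Monoid.FG (Multiplicative M) := inferInstance
  haveI : Algebra.FiniteType (ULift.{u} ℤ) (MonoidAlgebra (ULift.{u} ℤ) (Multiplicative M)) := inferInstance
  haveI : LocallyOfFiniteType (Red.diag (ULift.{u} ℤ) M).hom := by
    show LocallyOfFiniteType (Spec.map (CommRingCat.ofHom
      (algebraMap (ULift.{u} ℤ) (MonoidAlgebra (ULift.{u} ℤ) (Multiplicative M)))))
    rw [HasRingHomProperty.Spec_iff (P := @LocallyOfFiniteType)]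
    exact RingHom.finiteType_algebraMap.mpr inferInstance
  exact inferInstanceAs (LocallyOfFiniteType (pullback.snd (Red.diag (ULift.{u} ℤ) M).hom _))

variable {S : Scheme.{u}}

/-- A group of multiplicative type and finite type is locally of finite type. -/
theorem locallyOfFiniteType_of_isMultTypeFT (H : Over S) [GrpObj H] (hH : SGA3x.IsMultTypeFT H) :
    LocallyOfFiniteType H.hom := by
  obtain ⟨S', f, hf, hs, hcov, hloc⟩ := hH
  have hU : ∀ s' : S', ∃ U : S'.Opens, s' ∈ U ∧ LocallyOfFiniteType (pullback.snd H.hom (U.ι ≫ f)) := by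
    intro s'
    obtain ⟨U, hsU, M, hM, hMfg, ⟨e⟩⟩ := hloc s'
    refine ⟨U, hsU, ?_⟩
    haveI := locallyOfFiniteType_DS (U : Scheme.{u}) M hMfg
    let e' : Red.bc (U.ι ≫ f) H ≅ Red.DS (U : Scheme.{u}) M := (Grp.forget _).mapIso e
    haveI : IsIso e'.hom.left := ((Over.forget _).mapIso e').isIso_hom
    show LocallyOfFiniteType (Red.bc (U.ι ≫ f) H).hom
    rw [← Over.w e'.hom]
    exact MorphismProperty.comp_mem @LocallyOfFiniteType _ _ inferInstance inferInstance
  choose U hsU hUt using hU
  have hbc : LocallyOfFiniteType (pullback.snd H.hom f) := by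
    refine (IsZariskiLocalAtTarget.iff_of_iSup_eq_top (P := @LocallyOfFiniteType) U
      (eq_top_iff.mpr fun s' _ => TopologicalSpace.Opens.mem_iSup.mpr ⟨s', hsU s'⟩)).mpr fun s' => ?_
    have h1 := (isPullback_morphismRestrict (pullback.snd H.hom f) (U s')).flip.paste_horiz
      (IsPullback.of_hasPullback H.hom f)
    rw [← h1.isoPullback_hom_snd]
    exact (MorphismProperty.cancel_left_of_respectsIso @LocallyOfFiniteType _ _).mpr (hUt s')
  refine (IsZariskiLocalAtTarget.iff_of_iSup_eq_top (P := @LocallyOfFiniteType) _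
    (iSup_affineOpens_eq_top S)).mpr fun ⟨V, hV⟩ => ?_
  obtain ⟨W, hWc, hWV⟩ := hcov V hV
  let g : (W : Scheme.{u}) ⟶ V := IsOpenImmersion.lift V.ι (W.ι ≫ f) (by
    rw [Scheme.Hom.comp_base, TopCat.coe_comp, Set.range_comp, Scheme.Opens.range_ι, Scheme.Opens.range_ι, hWV])
  have hg : g ≫ V.ι = W.ι ≫ f := IsOpenImmersion.lift_fac _ _ _
  haveI : Flat g := by
    haveI : Flat (g ≫ V.ι) := by rw [hg]; infer_instance
    exact MorphismProperty.of_postcomp (W := @Flat) (W' := @IsOpenImmersion) g V.ι inferInstance ‹_›
  haveI : Surjective g := ⟨fun ⟨v, hv⟩ => by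
    obtain ⟨w, hw, rfl⟩ := hWV.ge hv
    refine ⟨⟨w, hw⟩, V.ι.isOpenEmbedding.injective ?_⟩
    rw [← Scheme.Hom.comp_apply, hg]
    rfl⟩
  haveI : CompactSpace (W : Scheme.{u}) := isCompact_iff_compactSpace.mp hWc
  haveI : IsAffine (V : Scheme.{u}) := hV
  haveI : QuasiCompact g := inferInstance
  have h2 : IsPullback (pullback.snd (H.hom ∣_ V) g) (pullback.fst (H.hom ∣_ V) g) g (H.hom ∣_ V) :=
    (IsPullback.of_hasPullback _ g).flip
  refine MorphismProperty.of_isPullback_of_descendsAlong (P := @LocallyOfFiniteType)
    (Q := @Surjective ⊓ @Flat ⊓ @QuasiCompact) (f := g) (g := H.hom ∣_ V) h2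
    ⟨⟨inferInstance, inferInstance⟩, inferInstance⟩ ?_
  have h3 := (IsPullback.of_hasPullback (H.hom ∣_ V) g).paste_horiz
    (isPullback_morphismRestrict H.hom V).flip
  rw [hg] at h3
  haveI : LocallyOfFiniteType (pullback.snd H.hom (W.ι ≫ f)) := by
    have h4 := IsPullback.of_hasPullback H.hom (W.ι ≫ f)
    let l : pullback H.hom (W.ι ≫ f) ⟶ pullback H.hom f :=
      pullback.lift (pullback.fst _ _) (pullback.snd _ _ ≫ W.ι) (by rw [pullback.condition, Category.assoc])
    have hp : IsPullback l (pullback.snd H.hom (W.ι ≫ f)) (pullback.snd H.hom f) W.ι := by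
      refine IsPullback.of_right ?_ (pullback.lift_snd _ _ _) (IsPullback.of_hasPullback H.hom f)
      rw [pullback.lift_fst]
      exact h4
    exact MorphismProperty.of_isPullback hp hbc
  rw [← h3.isoPullback_hom_snd]
  exact (MorphismProperty.cancel_left_of_respectsIso @LocallyOfFiniteType _ _).mpr inferInstance

/-- A morphism locally of finite type over the base whose fibres are monomorphisms is a monomorphism. -/
theorem mono_of_fibreHom_mono {G H : Over S} (u : H ⟶ G) [LocallyOfFiniteType u.left]
    (hfib : ∀ s : S, Mono ((Over.pullback (S.fromSpecResidueField s)).map u).left) : Mono u.left := by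
  haveI : FormallyUnramified u.left := by
    rw [formallyUnramified_iff_forall_mem_fuLocus]
    intro x
    let us := ((Over.pullback (S.fromSpecResidueField (H.hom x))).map u).left
    haveI : Mono us := hfib _
    haveI : LocallyOfFiniteType us := MorphismProperty.of_isPullback (isPullback_fibreHom' u _) inferInstance
    haveI : IsIso (pullback.diagonal us) := inferInstance
    haveI : FormallyUnramified us := inferInstance
    obtain ⟨z, hz⟩ : x ∈ Set.range (H.hom.fiberι (H.hom x)) := by rw [Scheme.Hom.range_fiberι]; rfl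
    rw [← hz]
    exact (mem_fuLocus_of_isPullback (isPullback_fibreHom' u _) z).mp
      ((formallyUnramified_iff_forall_mem_fuLocus us).mp inferInstance z)
  haveI : UniversallyInjective u.left := universallyInjective_of_fibres u.left G.hom fun s => by
    haveI : Mono ((Over.pullback (S.fromSpecResidueField s)).map u).left := hfib s
    have h := (isPullback_fibreHom' u s).isoPullback_inv_snd
    rw [← h]
    have : IsIso (isPullback_fibreHom' u s).isoPullback.inv := inferInstance
    haveI : Mono ((isPullback_fibreHom' u s).isoPullback.inv ≫ ((Over.pullback (S.fromSpecResidueField s)).map u).left) :=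
      mono_comp _ _
    rw [UniversallyInjective.iff_diagonal]
    infer_instance
  exact mono_of_formallyUnramified_of_universallyInjective u.left

end Groth.FibrewiseCrit
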