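import Mathlib
import Groth.Agent.SourceDescent.Basic

/-!
Descent of `IsHomeomorph` and `IsIso` along a flat surjective `g` (not nec. quasi-compact)
for a quasi-compact `f`.
-/

open CategoryTheory CategoryTheory.Limits AlgebraicGeometry MorphismProperty

universe u

namespace Groth.Agent.FibrewiseCrit

variable {X Y Y' : Scheme.{u}} (f : X ⟶ Y) (g : Y' ⟶ Y)

theorem bijective_of_pullback [Surjective g] (h : Function.Bijective (pullback.snd f g).base) :
    Function.Bijective f.base := by
  refine ⟨fun x₁ x₂ he => ?_, fun y => ?_⟩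
  · obtain ⟨y', hy'⟩ := g.surjective (f.base x₁)
    obtain ⟨p₁, h₁, h₁'⟩ := Scheme.Pullback.exists_preimage_pullback x₁ y' hy'.symm
    obtain ⟨p₂, h₂, h₂'⟩ := Scheme.Pullback.exists_preimage_pullback (f := f) (g := g) x₂ y'
      (by rw [← he]; exact hy'.symm)
    obtain rfl := h.1 (h₁'.trans h₂'.symm)
    exact h₁.symm.trans h₂
  · obtain ⟨y', hy'⟩ := g.surjective y
    obtain ⟨p, hp⟩ := h.2 y'
    refine ⟨(pullback.fst f g).base p, ?_⟩
    have := congrArg (fun m : pullback f g ⟶ Y => m.base p) (pullback.condition (f := f) (g := g))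
    simp only [Scheme.Hom.comp_base, TopCat.comp_app] at this
    exact this.trans ((congrArg g.base hp).trans hy')

theorem isHomeomorph_of_pullback [Flat g] [Surjective g] [QuasiCompact f]
    (h : IsHomeomorph (pullback.snd f g).base) : IsHomeomorph f.base := by
  refine isHomeomorph_iff_continuous_isClosedMap_bijective.mpr
    ⟨f.continuous, ?_, bijective_of_pullback f g h.bijective⟩
  rw [isClosedMap_iff_specializingMap]
  rw [specializingMap_iff_closure_singleton_subset] at *
  intro x y₀ hy₀
  obtain ⟨y₀', hy₀'⟩ := g.surjective y₀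
  have hspec : f.base x ⤳ g.base y₀' := by
    rw [hy₀']; exact specializes_iff_mem_closure.mpr hy₀
  obtain ⟨y', hy', hy'eq⟩ := Flat.generalizingMap g hspec
  obtain ⟨p, hp, hp'⟩ := Scheme.Pullback.exists_preimage_pullback x y' hy'eq.symm
  obtain ⟨p₀, hp₀⟩ := h.surjective y₀'
  have hpp : p ⤳ p₀ := by
    rw [← h.isEmbedding.isInducing.specializes_iff]
    rw [hp', hp₀]
    exact hy'
  refine ⟨(pullback.fst f g).base p₀, ?_, ?_⟩
  · exact specializes_iff_mem_closure.mp (hp ▸ hpp.map (pullback.fst f g).continuous)
  · have := congrArg (fun m : pullback f g ⟶ Y => m.base p₀) (pullback.condition (f := f) (g := g))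
    simp only [Scheme.Hom.comp_base, TopCat.comp_app] at this
    exact this.trans ((congrArg g.base hp₀).trans hy₀')

theorem flat_of_pullback_snd [Flat g] [Surjective g] [Flat (pullback.snd f g)] : Flat f := by
  haveI : Flat (pullback.fst f g ≫ f) := by rw [pullback.condition]; infer_instance
  exact SourceDescent.flat_of_comp (pullback.fst f g) f

/-- a quasi-compact flat surjective monomorphism is an isomorphism -/
theorem isIso_of_mono_of_flat_surjective [Flat f] [Surjective f] [QuasiCompact f] [Mono f] :
    IsIso f :=
  of_pullback_fst_of_descendsAlong (P := isomorphisms Scheme.{u})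
    (Q := @Surjective ⊓ @Flat ⊓ @QuasiCompact) (f := f) (g := f)
    ⟨⟨inferInstance, inferInstance⟩, inferInstance⟩
    (show IsIso (pullback.fst f f) from inferInstance)

theorem isIso_of_pullback_snd [Flat g] [Surjective g] [QuasiCompact f] [IsIso (pullback.snd f g)] :
    IsIso f := by
  haveI : Flat f := flat_of_pullback_snd f g
  haveI hbij := bijective_of_pullback f g ((pullback.snd f g).homeomorph.bijective)
  haveI : Surjective f := ⟨hbij.2⟩
  suffices Mono f from isIso_of_mono_of_flat_surjective f
  let Δ := pullback.diagonal f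
  let p := pullback.snd f f
  let h := pullback.fst f g
  have hΔp : Δ ≫ p = 𝟙 X := pullback.diagonal_snd f
  haveI hp : IsIso (pullback.snd p h) := by
    have h1 : IsIso (pullback.snd f (pullback.snd f g ≫ g)) := by
      rw [← pullbackLeftPullbackSndIso_inv_snd_snd f g (pullback.snd f g)]
      infer_instance
    have h2 : IsIso (pullback.snd f (h ≫ f)) := by
      have : h ≫ f = pullback.snd f g ≫ g := pullback.condition
      rw [this]; exact h1
    rw [← pullbackLeftPullbackSndIso_hom_snd f f h]
    infer_instance
  haveI : Surjective Δ := by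
    refine ⟨fun z => ⟨p.base z, (bijective_of_pullback p h (pullback.snd p h).homeomorph.bijective).1 ?_⟩⟩
    rw [← Scheme.Hom.comp_apply, hΔp]; rfl
  haveI : IsClosedImmersion Δ := by
    refine IsClosedImmersion.of_isPreimmersion Δ ?_
    rw [Δ.surjective.range_eq]
    exact isClosed_univ
  let w := pullback.fst p h
  haveI : IsIso (pullback.snd Δ w) := by
    have sq := (IsPullback.of_hasPullback Δ w).flip.paste_horiz (IsPullback.of_hasPullback p h).flip
    rw [hΔp] at sq
    have : IsIso (pullback.snd Δ w ≫ pullback.snd p h) := by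
      exact sq.flip.isIso_snd_of_isIso
    exact IsIso.of_isIso_comp_right _ (pullback.snd p h)
  haveI : Flat Δ := flat_of_pullback_snd Δ w
  haveI : IsIso Δ := isIso_of_mono_of_flat_surjective Δ
  exact (pullback.isIso_diagonal_iff f).mp ‹_›

end Groth.Agent.FibrewiseCrit
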