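import Mathlib

/-!
# A finite commutative group scheme is killed by its rank (Deligne)

For a cocommutative Hopf algebra `A` over `R`, an `R`-algebra `T` over which `A` becomes free of rank `m`
and a point `u : A →ₐ[R] T`, the norm from the convolution algebra `Hom(A, T ⊗ A)` to `Hom(A, T)` gives
`u ^ m = 1`.
-/

universe u v w

open TensorProduct WithConv Coalgebra

namespace Groth.FibrewiseCrit.Deligne

variable {R : Type u} [CommRing R] {A : Type v} [CommRing A] [HopfAlgebra R A] [IsCocomm R A]
variable {T : Type w} [CommRing T] [Algebra R T]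

noncomputable section

/-- Postcomposition with an algebra map, as a ring homomorphism of convolution algebras. -/
def post {M N : Type*} [CommRing M] [Algebra R M] [CommRing N] [Algebra R N] (h : M →ₐ[R] N) :
    WithConv (A →ₗ[R] M) →+* WithConv (A →ₗ[R] N) where
  toFun f := toConv (h.toLinearMap ∘ₗ f.ofConv)
  map_one' := by ext a; simp
  map_mul' f g := by
    ext a
    simp [(ℛ R a).convMul_apply]
  map_zero' := by ext a; simp
  map_add' f g := by ext a; simp

theorem post_apply {M N : Type*} [CommRing M] [Algebra R M] [CommRing N] [Algebra R N] (h : M →ₐ[R] N)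
    (f : WithConv (A →ₗ[R] M)) (a : A) : post h f a = h (f a) := rfl

/-- The map from algebra homomorphisms to linear maps, multiplicative for convolution. -/
def lin {M : Type*} [CommRing M] [Algebra R M] : WithConv (A →ₐ[R] M) →* WithConv (A →ₗ[R] M) where
  toFun f := toConv f.ofConv.toLinearMap
  map_one' := AlgHom.toLinearMap_convOne
  map_mul' := AlgHom.toLinearMap_convMul

theorem post_lin {M N : Type*} [CommRing M] [Algebra R M] [CommRing N] [Algebra R N] (h : M →ₐ[R] N)
    (f : WithConv (A →ₐ[R] M)) : post h (lin f) = lin (toConv (h.comp f.ofConv)) := rfl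

variable (A) in
/-- The inclusion of the coefficients. -/
abbrev iota : T →ₐ[R] T ⊗[R] A := Algebra.TensorProduct.includeLeft

/-- The universal point. -/
abbrev gen : WithConv (A →ₐ[R] T ⊗[R] A) := toConv Algebra.TensorProduct.includeRight

/-- Translation by a point. -/
def trans (u : WithConv (A →ₐ[R] T)) : T ⊗[R] A →ₐ[T] T ⊗[R] A :=
  Algebra.TensorProduct.lift (Algebra.ofId T _)
    (toConv ((iota A).comp u.ofConv) * gen).ofConv (fun _ _ => mul_comm _ _)

theorem trans_comp_iota (u : WithConv (A →ₐ[R] T)) :
    ((trans u).restrictScalars R).comp (iota A) = iota A :=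
  AlgHom.ext fun t => by simp [trans]

theorem trans_comp_gen (u : WithConv (A →ₐ[R] T)) :
    ((trans u).restrictScalars R).comp (gen : WithConv (A →ₐ[R] T ⊗[R] A)).ofConv =
      (toConv ((iota A).comp u.ofConv) * gen).ofConv :=
  AlgHom.ext fun a => by simp [trans]

theorem trans_comp (u v : WithConv (A →ₐ[R] T)) : (trans u).comp (trans v) = trans (v * u) := by
  refine Algebra.TensorProduct.ext (Subsingleton.elim _ _) ?_
  show ((((trans u).comp (trans v)).restrictScalars R).comp _) = ((trans (v * u)).restrictScalars R).comp _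
  change ((trans u).restrictScalars R).comp (((trans v).restrictScalars R).comp
    (gen : WithConv (A →ₐ[R] T ⊗[R] A)).ofConv) = ((trans (v * u)).restrictScalars R).comp
    (gen : WithConv (A →ₐ[R] T ⊗[R] A)).ofConv
  rw [trans_comp_gen, trans_comp_gen, AlgHom.comp_convMul_distrib, ofConv_toConv, ← AlgHom.comp_assoc,
    trans_comp_iota, trans_comp_gen, toConv_ofConv, ← _root_.mul_assoc]
  congr 2
  exact (congrArg toConv (AlgHom.comp_convMul_distrib (iota A) v u)).symm

/-- The inverse of a point. -/
def neg {M : Type*} [CommRing M] [Algebra R M] (u : WithConv (A →ₐ[R] M)) : WithConv (A →ₐ[R] M) :=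
  toConv (u.ofConv.comp (HopfAlgebra.antipodeAlgHom R A))

theorem neg_mul {M : Type*} [CommRing M] [Algebra R M] (u : WithConv (A →ₐ[R] M)) : neg u * u = 1 := by
  have h := AlgHom.comp_convMul_distrib u.ofConv (toConv (HopfAlgebra.antipodeAlgHom R A))
    (toConv (AlgHom.id R A))
  rw [AlgHom.antipode_id_cancel] at h
  refine WithConv.ofConv_injective (h.symm.trans (AlgHom.ext fun a => ?_))
  simp

theorem isUnit_point {M : Type*} [CommRing M] [Algebra R M] (u : WithConv (A →ₐ[R] M)) : IsUnit u :=
  IsUnit.of_mul_eq_one_right (neg u) (neg_mul u)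

theorem trans_one : trans (1 : WithConv (A →ₐ[R] T)) = AlgHom.id T _ := by
  refine Algebra.TensorProduct.ext (Subsingleton.elim _ _) ?_
  show ((trans 1).restrictScalars R).comp (gen : WithConv (A →ₐ[R] T ⊗[R] A)).ofConv =
    (gen : WithConv (A →ₐ[R] T ⊗[R] A)).ofConv
  rw [trans_comp_gen, show toConv ((iota A).comp (1 : WithConv (A →ₐ[R] T)).ofConv) = 1 from
    WithConv.ofConv_injective (AlgHom.ext fun a => by simp), _root_.one_mul]

/-- Deligne: a point is killed by the rank. -/
theorem pow_finrank_eq_one {ι : Type*} [Fintype ι] (b : Module.Basis ι T (T ⊗[R] A))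
    (u : WithConv (A →ₐ[R] T)) : u ^ Fintype.card ι = 1 := by
  classical
  let D := WithConv (A →ₗ[R] T)
  let E := WithConv (A →ₗ[R] (T ⊗[R] A))
  letI : Algebra D E := (post (A := A) (iota (T := T) A)).toAlgebra
  let q : (T ⊗[R] A) → E := fun z => toConv ((LinearMap.toSpanSingleton R _ z) ∘ₗ counit)
  have hsmul : ∀ (d : D) (z : T ⊗[R] A) (a : A), (d • q z : E) a = d a • z := by
    intro d z a
    rw [Algebra.smul_def]
    show (post (iota A) d * q z) a = _
    rw [mul_comm (post (iota A) d)]
    rw [(ℛ R a).convMul_apply]
    conv_rhs => rw [← sum_counit_smul (R := R) (ℛ R a)]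
    simp only [map_sum, map_smul, Finset.sum_smul]
    refine Finset.sum_congr rfl fun i _ => ?_
    simp [q, post_apply, Algebra.smul_def, TensorProduct.smul_tmul']
    rw [mul_right_comm, Algebra.TensorProduct.tmul_mul_tmul, _root_.mul_one]
  have hsum : ∀ (f : ι → E) (a : A), (∑ i, f i : E) a = ∑ i, f i a := fun f a =>
    map_sum (⟨⟨fun g : E => g a, rfl⟩, fun _ _ => rfl⟩ : E →+ T ⊗[R] A) f _
  let coord : ι → E → D := fun i f => toConv (((b.coord i).restrictScalars R) ∘ₗ f.ofConv)
  let e : E ≃ₗ[D] (ι → D) :=
    LinearEquiv.symm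
      { toFun := fun d => ∑ i, d i • q (b i)
        map_add' := fun d d' => by
          simp only [Pi.add_apply, Algebra.smul_def, map_add, add_mul, Finset.sum_add_distrib]
        map_smul' := fun c d => by simp only [Algebra.smul_def, map_mul, Finset.mul_sum, _root_.mul_assoc, Pi.smul_apply, smul_eq_mul, RingHom.id_apply, Algebra.algebraMap_self, RingHom.id_apply]
        invFun := fun f i => coord i f
        left_inv := fun d => by
          funext i
          ext a
          simp [coord, hsum, hsmul, Finsupp.single_apply]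
        right_inv := fun f => by
          ext a
          simp [coord, hsum, hsmul, b.sum_repr] }
  let B : Module.Basis ι D E := Module.Basis.ofEquivFun e
  haveI : Module.Finite D E := Module.Finite.of_basis B
  haveI : Module.Free D E := Module.Free.of_basis B
  let σ : (T ⊗[R] A) →ₐ[R] (T ⊗[R] A) := (trans u).restrictScalars R
  let σ' : (T ⊗[R] A) →ₐ[R] (T ⊗[R] A) := (trans (neg u)).restrictScalars R
  have hσ : ∀ z, σ (σ' z) = z := fun z => by
    have := congr($(trans_comp u (neg u)) z)
    rw [neg_mul, trans_one] at this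
    exact this
  have hσ' : ∀ z, σ' (σ z) = z := fun z => by
    have := congr($(trans_comp (neg u) u) z)
    rw [mul_comm u, neg_mul, trans_one] at this
    exact this
  let τ : E ≃ₐ[D] E :=
    { toFun := post σ
      invFun := post σ'
      left_inv := fun f => by ext a; simp [post_apply, hσ']
      right_inv := fun f => by ext a; simp [post_apply, hσ]
      map_mul' := map_mul _
      map_add' := map_add _
      commutes' := fun d => by
        ext a
        exact congr($(trans_comp_iota u) (d a)) }
  have hτ : τ (lin gen) = algebraMap D E (lin u) * lin gen := by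
    show post σ (lin gen) = post (iota A) (lin u) * lin gen
    rw [post_lin, post_lin, ← map_mul]
    exact congrArg (fun x => lin (toConv x)) (trans_comp_gen u)
  have hN := Algebra.norm_eq_of_algEquiv τ (lin (gen : WithConv (A →ₐ[R] T ⊗[R] A)))
  rcases subsingleton_or_nontrivial D with hD | hD
  · refine WithConv.ofConv_injective (AlgHom.ext fun a => ?_)
    exact congr($(Subsingleton.elim (lin (u ^ Fintype.card ι)) (lin (1 : WithConv (A →ₐ[R] T)))) a)
  rw [hτ, map_mul, Algebra.norm_algebraMap, Module.finrank_eq_card_basis B] at hN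
  have hu : IsUnit (Algebra.norm D (lin (gen : WithConv (A →ₐ[R] T ⊗[R] A)))) :=
    ((isUnit_point gen).map lin).map _
  have h1 : lin u ^ Fintype.card ι = 1 := hu.mul_eq_right.mp hN
  rw [← map_pow, ← map_one (lin (R := R) (A := A) (M := T))] at h1
  refine WithConv.ofConv_injective (AlgHom.ext fun a => ?_)
  exact congr($h1 a)

/-- A finite locally free cocommutative Hopf algebra of rank `n` is killed by `n`. -/
theorem pow_rank_eq_one [Module.Finite R A] [Module.Projective R A] (n : ℕ)
    (hn : ∀ p : PrimeSpectrum R, Module.rankAtStalk A p = n) :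
    (toConv (AlgHom.id R A)) ^ n = 1 := by
  refine WithConv.ofConv_injective (AlgHom.ext fun a => ?_)
  refine Module.eq_of_localization_maximal (R := A) (M := A)
    (fun P _ => Localization.AtPrime P) (fun P _ => Algebra.linearMap A _) _ _ fun P hP => ?_
  let T := Localization.AtPrime P
  haveI : Module.Free T (T ⊗[R] A) := Module.free_of_flat_of_isLocalRing
  let b := Module.Free.chooseBasis T (T ⊗[R] A)
  have hcard : Fintype.card (Module.Free.ChooseBasisIndex T (T ⊗[R] A)) = n := by
    rw [← Module.finrank_eq_card_basis b,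
      ← hn ((PrimeSpectrum.mk (IsLocalRing.maximalIdeal T) inferInstance).comap (algebraMap R T)),
      ← Module.rankAtStalk_baseChange, Module.rankAtStalk_eq_finrank_of_free]
    rfl
  let h : A →ₐ[R] T := IsScalarTower.toAlgHom R A T
  have h1 := pow_finrank_eq_one b (toConv h)
  rw [hcard] at h1
  let ph : WithConv (A →ₐ[R] A) →* WithConv (A →ₐ[R] T) :=
    { toFun := fun f => toConv (h.comp f.ofConv)
      map_one' := WithConv.ofConv_injective (AlgHom.ext fun a => by simp)
      map_mul' := fun f g => congrArg toConv (AlgHom.comp_convMul_distrib h f g) }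
  have h2 : ph (toConv (AlgHom.id R A) ^ n) = ph 1 := by
    rw [map_pow, map_one]; exact h1
  exact congr($h2 a)

end

end Groth.FibrewiseCrit.Deligne
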