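import Mathlib
import Groth.Agent.FinHopf.Points
import Groth.Agent.FibrewiseCrit.Unramified

/-!
# Finite group schemes of invertible order over a field are etale
-/

universe u

open CategoryTheory CategoryTheory.Limits MonoidalCategory CartesianMonoidalCategory MonObj GrpObj AlgebraicGeometry
open scoped TensorProduct

namespace Groth.FibrewiseCrit

set_option linter.style.haveILetI false

/-- A finite reduced algebra over an algebraically closed field is formally unramified. -/
theorem formallyUnramified_of_isReduced (K A : Type u) [Field K] [IsAlgClosed K] [CommRing A] [Algebra K A]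
    [Module.Finite K A] [_root_.IsReduced A] : Algebra.FormallyUnramified K A := by
  haveI : IsArtinianRing A := IsArtinianRing.of_finite K A
  haveI : Algebra.FiniteType K A := inferInstance
  suffices Algebra.FormallyEtale K A from inferInstance
  refine (Algebra.FormallyEtale.iff_exists_algEquiv_prod K A).mpr
    ⟨MaximalSpectrum A, inferInstance, fun I => A ⧸ I.asIdeal, fun I => Ideal.Quotient.field I.asIdeal,
      fun I => inferInstance, (IsArtinianRing.equivPi A).restrictScalars K, fun I => ?_⟩
  letI := Ideal.Quotient.field I.asIdeal
  infer_instance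

/-- A finite Hopf algebra of invertible rank over a field is formally unramified. -/
theorem formallyUnramified_hopf (K A : Type u) [Field K] [CommRing A] [HopfAlgebra K A] [Module.Finite K A]
    (h : (Module.finrank K A : K) ≠ 0) : Algebra.FormallyUnramified K A := by
  let L := AlgebraicClosure K
  haveI : _root_.IsReduced (L ⊗[K] A) := by
    refine Groth.Agent.FinHopf.isReduced_of_isAlgClosed (k := L) ?_
    rw [Module.finrank_baseChange, ← map_natCast (algebraMap K L)]
    exact (map_ne_zero _).mpr h
  haveI := formallyUnramified_of_isReduced L (L ⊗[K] A)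
  exact Algebra.FormallyUnramified.of_formallyUnramified_tensorProduct_of_faithfullyFlat L

/-- A finite group scheme over a field of order invertible in the field is unramified. -/
theorem formallyUnramified_of_finrank (K : Type u) [Field K] (G : Over (Spec (CommRingCat.of K))) [GrpObj G]
    [IsFinite G.hom] (h : ∀ x, (G.hom.finrank x : K) ≠ 0) : FormallyUnramified G.hom := by
  haveI : IsAffine G.left := isAffine_of_isAffineHom G.hom
  obtain ⟨H, ⟨e⟩⟩ : (hopfSpec (CommRingCat.of K)).essImage (Grp.mk G) := essImage_hopfSpec.2 (inferInstanceAs (IsAffine G.left))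
  let A : Type u := H.unop
  let X : Over (Spec (CommRingCat.of K)) := (Spec (.of A)).asOver (Spec (.of K))
  let i : X ⟶ G := e.hom.hom.hom
  haveI : IsIso i := ((Grp.forget _).mapIso e).isIso_hom
  haveI : IsIso i.left := ((Over.forget _).mapIso (asIso i)).isIso_hom
  let il : Spec (CommRingCat.of A) ⟶ G.left := i.left
  haveI : IsIso il := inferInstanceAs (IsIso i.left)
  have hw : (Spec.map (CommRingCat.ofHom (algebraMap K A))) = il ≫ G.hom := (Over.w i).symm
  have hfin : IsFinite (Spec.map (CommRingCat.ofHom (algebraMap K A))) := by rw [hw]; infer_instance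
  haveI : Module.Finite K A := by
    rw [IsFinite.SpecMap_iff] at hfin
    exact RingHom.finite_algebraMap.1 hfin
  have hrk : (Module.finrank K A : K) ≠ 0 := by
    let p : PrimeSpectrum K := ⟨⊥, Ideal.isPrime_bot⟩
    have h1 := Scheme.Hom.finrank_SpecMap_algebraMap K A p
    rw [hw, Scheme.Hom.finrank_comp_left_of_isIso, Module.rankAtStalk_eq_finrank_of_free] at h1
    have := h p
    rwa [h1] at this
  haveI := formallyUnramified_hopf K A hrk
  have hu : FormallyUnramified (il ≫ G.hom) := by
    rw [← hw, HasRingHomProperty.Spec_iff (P := @FormallyUnramified)]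
    exact RingHom.formallyUnramified_algebraMap.mpr inferInstance
  exact (MorphismProperty.cancel_left_of_respectsIso @FormallyUnramified il G.hom).mp hu

/-- Formally unramified if all fibres are. -/
theorem formallyUnramified_of_fiberToSpecResidueField {X Y : Scheme.{u}} (f : X ⟶ Y) [LocallyOfFiniteType f]
    (h : ∀ y, FormallyUnramified (f.fiberToSpecResidueField y)) : FormallyUnramified f := by
  rw [formallyUnramified_iff_forall_mem_fuLocus]
  intro x
  haveI : LocallyOfFiniteType (f.fiberToSpecResidueField (f x)) :=
    inferInstanceAs (LocallyOfFiniteType (pullback.snd f _))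
  have := (mem_fuLocus_of_isPullback (IsPullback.of_hasPullback f (Y.fromSpecResidueField (f x))) (f.asFiber x)).mp
    ((formallyUnramified_iff_forall_mem_fuLocus _).mp (h _) _)
  rwa [show pullback.fst f (Y.fromSpecResidueField (f x)) (f.asFiber x) = x from f.fiberι_asFiber x] at this

end Groth.FibrewiseCrit
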