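import Mathlib

/-!
# Flatness from bijectivity on infinitesimal neighbourhoods
-/

universe u

open IsLocalRing TensorProduct

namespace Groth.FibrewiseCrit

set_option linter.style.haveILetI false

/-- A homomorphism of Noetherian local rings inducing bijections `A/m^n → B/m^n` for all `n` is flat. -/
theorem flat_of_bijective_infinitesimal {A B : Type u} [CommRing A] [CommRing B] [IsLocalRing A] [IsLocalRing B]
    [IsNoetherianRing A] [IsNoetherianRing B] (φ : A →+* B)
    (hs : ∀ (n : ℕ) (b : B), ∃ a : A, b - φ a ∈ maximalIdeal B ^ (n + 1))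
    (hi : ∀ (n : ℕ) (a : A), φ a ∈ maximalIdeal B ^ (n + 1) ↔ a ∈ maximalIdeal A ^ (n + 1)) :
    φ.Flat := by
  algebraize [φ]
  have hφ : φ = algebraMap A B := rfl
  simp only [hφ] at hs hi
  show Module.Flat A B
  rw [Module.Flat.iff_lTensor_injective]
  intro I hI
  have hm : maximalIdeal B = (maximalIdeal A).map (algebraMap A B) := by
    have h0 : ∀ a, algebraMap A B a ∈ maximalIdeal B ↔ a ∈ maximalIdeal A := fun a => by
      simpa using hi 0 a
    refine le_antisymm ?_ (Ideal.map_le_iff_le_comap.mpr fun a ha => (h0 a).mpr ha)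
    refine Submodule.le_of_le_smul_of_le_jacobson_bot (IsNoetherian.noetherian _)
      (maximalIdeal_le_jacobson ⊥) fun b hb => ?_
    obtain ⟨a, ha⟩ := hs 1 b
    have ha2 : b - algebraMap A B a ∈ maximalIdeal B • maximalIdeal B := by
      rw [smul_eq_mul, ← pow_two]; exact ha
    have : algebraMap A B a ∈ maximalIdeal B := by
      have := sub_mem hb (Submodule.smul_le_right ha2)
      simpa using this
    have h := Submodule.add_mem_sup (Ideal.mem_map_of_mem (algebraMap A B) ((h0 a).mp this)) ha2
    simpa using h
  let M := B ⊗[A] I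
  haveI : Module.Finite A I := Module.Finite.of_fg hI
  let g : M →ₗ[B] B := ((Algebra.linearMap A B).comp I.subtype).liftBaseChange B
  have hg : Function.Injective g := by
    rw [← LinearMap.ker_eq_bot, ← le_bot_iff]
    intro x hx
    rw [← Ideal.iInf_pow_smul_eq_bot_of_isLocalRing (maximalIdeal B) (M := M)
      (IsLocalRing.maximalIdeal.isMaximal B).ne_top, Submodule.mem_iInf]
    intro j
    obtain ⟨k, hk⟩ := Ideal.exists_pow_inf_eq_pow_smul (maximalIdeal A) (I : Submodule A A)
    let n := j + k
    have happrox : ∀ z : M, ∃ y : I, z - 1 ⊗ₜ[A] y ∈ (maximalIdeal B ^ (n + 1)) • (⊤ : Submodule B M) := by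
      intro z
      induction z using TensorProduct.induction_on with
      | zero => exact ⟨0, by simp⟩
      | tmul b i =>
        obtain ⟨c, hc⟩ := hs n b
        refine ⟨c • i, ?_⟩
        have : b ⊗ₜ[A] i - (1 : B) ⊗ₜ[A] (c • i) = (b - algebraMap A B c) • ((1 : B) ⊗ₜ[A] i) := by
          rw [TensorProduct.smul_tmul', smul_eq_mul, mul_one, TensorProduct.sub_tmul, ← TensorProduct.smul_tmul,
            Algebra.smul_def, mul_one]
        rw [this]
        exact Submodule.smul_mem_smul hc trivial
      | add p q hp hq =>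
        obtain ⟨y, hy⟩ := hp
        obtain ⟨y', hy'⟩ := hq
        refine ⟨y + y', ?_⟩
        rw [TensorProduct.tmul_add, add_sub_add_comm]
        exact add_mem hy hy'
    obtain ⟨y, hy⟩ := happrox x
    have hy' : algebraMap A B (y : A) ∈ maximalIdeal B ^ (n + 1) := by
      have h1 : g (x - 1 ⊗ₜ[A] y) ∈ (maximalIdeal B ^ (n + 1)) • (⊤ : Submodule B B) := by
        have := Submodule.mem_map_of_mem (f := g) hy
        rw [Submodule.map_smul''] at this
        exact Submodule.smul_mono le_rfl le_top this
      rw [map_sub, LinearMap.mem_ker.mp hx, zero_sub, neg_mem_iff, smul_eq_mul, Ideal.mul_top] at h1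
      have h2 : g ((1 : B) ⊗ₜ[A] y) = algebraMap A B (y : A) := by
        show (1 : B) • ((Algebra.linearMap A B).comp I.subtype y) = _
        rw [one_smul]; rfl
      rwa [h2] at h1
    have hy2 : (y : A) ∈ maximalIdeal A ^ n :=
      Ideal.pow_le_pow_right (Nat.le_succ n) ((hi n y).mp hy')
    have hy3 : y ∈ (maximalIdeal A ^ j) • (⊤ : Submodule A I) := by
      have h4 : (y : A) ∈ maximalIdeal A ^ n • (⊤ : Submodule A A) ⊓ (I : Submodule A A) := by
        refine ⟨?_, y.2⟩
        rw [smul_eq_mul, Ideal.mul_top]; exact hy2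
      rw [hk n (Nat.le_add_left k j), Nat.add_sub_cancel] at h4
      have h5 : (y : A) ∈ Submodule.map I.subtype ((maximalIdeal A ^ j) • (⊤ : Submodule A I)) := by
        rw [Submodule.map_smul'', Submodule.map_top, Submodule.range_subtype]
        exact Submodule.smul_mono le_rfl inf_le_right h4
      obtain ⟨w, hw, hwy⟩ := h5
      rwa [show y = w from Subtype.ext hwy.symm]
    have hy5 : (1 : B) ⊗ₜ[A] y ∈ (maximalIdeal B ^ j) • (⊤ : Submodule B M) := by
      have : (maximalIdeal A ^ j) • (⊤ : Submodule A I) ≤
          (((maximalIdeal B ^ j) • (⊤ : Submodule B M)).restrictScalars A).comap (TensorProduct.mk A B I 1) := by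
        refine Submodule.smul_le.mpr fun a ha i _ => ?_
        rw [Submodule.mem_comap, map_smul, Submodule.restrictScalars_mem, ← algebraMap_smul B a]
        refine Submodule.smul_mem_smul ?_ trivial
        rw [hm, ← Ideal.map_pow]
        exact Ideal.mem_map_of_mem _ ha
      exact this hy3
    have := add_mem (Submodule.smul_mono_left (Ideal.pow_le_pow_right (by omega : j ≤ n + 1)) hy) hy5
    simpa using this
  have he : g.restrictScalars A = (TensorProduct.rid A B).toLinearMap ∘ₗ I.subtype.lTensor B := by
    ext i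
    simp [g, Algebra.smul_def, mul_comm]
  have hg' : Function.Injective (g.restrictScalars A) := hg
  rw [he, LinearMap.coe_comp] at hg'
  exact hg'.of_comp

end Groth.FibrewiseCrit
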