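import Mathlib
import Groth.Agent.FibrewiseCrit.Group
import Groth.Agent.FibrewiseCrit.LQF

/-!
# Finite presentation descends along fppf maps at the source, and saturation of loci of group homomorphisms
-/

universe u

open CategoryTheory CategoryTheory.Limits MonoidalCategory CartesianMonoidalCategory MonObj GrpObj AlgebraicGeometry

namespace Groth.FibrewiseCrit

set_option linter.style.haveILetI false
set_option backward.isDefEq.respectTransparency false

/-- If `g ≫ h` is locally of finite presentation then finite presentation of `g` can be checked after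
composing with a fppf cover of the source. -/
theorem locallyOfFinitePresentation_of_fppf_comp {X Y Z S : Scheme.{u}} (k : X ⟶ Y) (g : Y ⟶ Z) (h : Z ⟶ S)
    [Flat k] [Surjective k] [LocallyOfFinitePresentation k] [LocallyOfFinitePresentation (g ≫ h)]
    [LocallyOfFinitePresentation (k ≫ g)] : LocallyOfFinitePresentation g := by
  let Γ : Y ⟶ pullback (g ≫ h) h := pullback.lift (𝟙 Y) g (Category.id_comp _)
  let q : pullback (k ≫ g ≫ h) h ⟶ pullback (g ≫ h) h :=
    pullback.map _ _ _ _ k (𝟙 Z) (𝟙 S) (Category.comp_id _) (by simp)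
  have hq : IsPullback (pullback.fst (k ≫ g ≫ h) h) q k (pullback.fst (g ≫ h) h) := by
    refine IsPullback.of_bot ?_ (pullback.lift_fst _ _ _).symm (IsPullback.of_hasPullback (g ≫ h) h)
    rw [show q ≫ pullback.snd (g ≫ h) h = pullback.snd _ _ from (pullback.lift_snd _ _ _).trans (Category.comp_id _)]
    exact IsPullback.of_hasPullback (k ≫ g ≫ h) h
  let Γ' : X ⟶ pullback (k ≫ g ≫ h) h := pullback.lift (𝟙 X) (k ≫ g) (by simp)
  have hΓ : IsPullback k Γ' Γ q := by
    refine IsPullback.of_bot (v₂₁ := pullback.fst (k ≫ g ≫ h) h) (v₂₂ := pullback.fst (g ≫ h) h) (h₃₁ := k)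
      ?_ ?_ hq.flip
    · rw [pullback.lift_fst, pullback.lift_fst]
      exact IsPullback.of_vert_isIso ⟨by simp⟩
    · apply pullback.hom_ext
      · simp [Γ, Γ', q]
        exact (Category.id_comp k).symm
      · simp [Γ, Γ', q]
  haveI : LocallyOfFinitePresentation Γ' := by
    haveI : LocallyOfFinitePresentation (Γ' ≫ pullback.snd (k ≫ g ≫ h) h) := by
      rw [pullback.lift_snd]; infer_instance
    exact locallyOfFinitePresentation_of_comp Γ' (pullback.snd (k ≫ g ≫ h) h) ‹_› inferInstance
  have hQ : (@Surjective ⊓ @Flat ⊓ @LocallyOfFinitePresentation : MorphismProperty Scheme) q :=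
    ⟨⟨MorphismProperty.of_isPullback hq inferInstance, MorphismProperty.of_isPullback hq inferInstance⟩,
      MorphismProperty.of_isPullback hq inferInstance⟩
  haveI : LocallyOfFinitePresentation Γ :=
    MorphismProperty.of_isPullback_of_descendsAlong (P := @LocallyOfFinitePresentation)
      (Q := @Surjective ⊓ @Flat ⊓ @LocallyOfFinitePresentation) hΓ.flip hQ ‹_›
  rw [← pullback.lift_snd (𝟙 Y) g (Category.id_comp (g ≫ h))]
  infer_instance

open Groth.Agent.GrpSchField

variable {S : Scheme.{u}} {G H : Over S} [GrpObj G] [GrpObj H] (f : G ⟶ H) [IsMonHom f]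

/-- The quasi-finite locus of a homomorphism is a union of fibres. -/
theorem quasiFiniteAt_saturated [LocallyOfFiniteType f.left] {x y : G.left} (h : G.hom x = G.hom y)
    (hx : f.left.QuasiFiniteAt x) : f.left.QuasiFiniteAt y :=
  locus_saturated f (fun φ => {x | φ.QuasiFiniteAt x})
    (fun _ _ _ => Scheme.Hom.quasiFiniteAt_comp_iff_of_isOpenImmersion)
    (fun _ _ _ => Scheme.Hom.quasiFiniteAt_comp_iff)
    (fun w => quasiFiniteAt_of_isPullback (isPullback_whiskerRight f) w) h hx

/-- A homomorphism of group schemes which is of finite presentation on an open subscheme meeting every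
fibre is of finite presentation, the source being flat of finite presentation over the base. -/
theorem locallyOfFinitePresentation_of_open [Flat G.hom] [LocallyOfFinitePresentation G.hom] (W : G.left.Opens)
    (hW : ∀ y : G.left, ∃ w ∈ W, G.hom w = G.hom y) [LocallyOfFinitePresentation (W.ι ≫ f.left)] :
    LocallyOfFinitePresentation f.left := by
  let p := (fst G G).left
  haveI : LocallyOfFinitePresentation p := inferInstanceAs (LocallyOfFinitePresentation (pullback.fst G.hom G.hom))
  haveI : Flat p := inferInstanceAs (Flat (pullback.fst G.hom G.hom))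
  have hμ : μ[G].left = (shearR (G := G)).hom.left ≫ p := by
    rw [← Over.comp_left]; simp [shearR, Hom.mul_def]
  haveI := isIso_left (shearR (G := G))
  let k : ↑(p ⁻¹ᵁ W) ⟶ G.left := (p ⁻¹ᵁ W).ι ≫ μ[G].left
  haveI : Flat k := by simp only [k, hμ]; infer_instance
  haveI : LocallyOfFinitePresentation k := by simp only [k, hμ]; infer_instance
  haveI : Surjective k := ⟨fun y => by
    obtain ⟨w, hw, hwy⟩ := hW y
    obtain ⟨z', h1, h2⟩ := Scheme.Pullback.exists_preimage_pullback (f := G.hom) (g := G.hom) w y hwy
    let z := (shearL (𝟙 G)).inv.left z'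
    have hz1 : p z = w := by
      rw [← Scheme.Hom.comp_apply, ← Over.comp_left,
        show (shearL (𝟙 G)).inv ≫ fst G G = fst G G by simp [shearL]]
      exact h1
    have hz2 : μ[G].left z = y := by
      rw [← Scheme.Hom.comp_apply, ← Over.comp_left]
      have : (shearL (𝟙 G)).inv ≫ μ[G] = snd G G := by rw [Iso.inv_comp_eq, shearL_snd]; simp
      rw [this]; exact h2
    exact ⟨⟨z, show p z ∈ W by rw [hz1]; exact hw⟩, hz2⟩⟩
  let ψ : H ⊗ G ≅ H ⊗ G :=
    { hom := lift (fst H G * (snd H G ≫ f)) (snd H G)
      inv := lift (fst H G * (snd H G ≫ f)⁻¹) (snd H G)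
      hom_inv_id := by apply CartesianMonoidalCategory.hom_ext <;> simp [comp_mul, comp_inv, _root_.mul_assoc]
      inv_hom_id := by apply CartesianMonoidalCategory.hom_ext <;> simp [comp_mul, comp_inv, _root_.mul_assoc] }
  haveI := isIso_left ψ
  have hcomp : μ[G] ≫ f = f ▷ G ≫ ψ.hom ≫ fst H G := by
    rw [show μ[G] = fst G G * snd G G by rw [Hom.mul_def, lift_fst_snd, Category.id_comp]]
    rw [show (fst G G * snd G G) ≫ f = (fst G G ≫ f) * (snd G G ≫ f) from map_mul (IsMonHom.monoidHom f _) _ _]
    simp [ψ, comp_mul]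
  haveI : LocallyOfFinitePresentation ((p ⁻¹ᵁ W).ι ≫ (f ▷ G).left) :=
    MorphismProperty.of_isPullback
      ((isPullback_morphismRestrict p W).paste_vert (isPullback_whiskerRight f)) inferInstance
  haveI : LocallyOfFinitePresentation (fst H G).left :=
    inferInstanceAs (LocallyOfFinitePresentation (pullback.fst H.hom G.hom))
  haveI : LocallyOfFinitePresentation (k ≫ f.left) := by
    simp only [k, Category.assoc, ← Over.comp_left, hcomp]
    simp only [Over.comp_left, ← Category.assoc]
    infer_instance
  haveI : LocallyOfFinitePresentation (f.left ≫ H.hom) := by rw [Over.w f]; infer_instance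
  exact locallyOfFinitePresentation_of_fppf_comp k f.left H.hom

end Groth.FibrewiseCrit
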