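import Mathlib
import Groth.Agent.FibrewiseCrit.InfFlat
import Groth.Agent.FibrewiseCrit.Pointwise

/-!
# Tangent map of the power maps of a group scheme at the unit
-/

universe u

open CategoryTheory CategoryTheory.Limits MonoidalCategory CartesianMonoidalCategory MonObj GrpObj AlgebraicGeometry

namespace Groth.FibrewiseCrit.Tangent

set_option linter.style.haveILetI false
set_option backward.isDefEq.respectTransparency false

noncomputable section

variable {K : Type u} [Field K]

section Pt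

variable (K)
variable (W : Type u) [AddCommGroup W] [Module K W] [Module Kᵐᵒᵖ W] [IsCentralScalar K W]

/-- The spectrum of `K ⊕ W`, over `K`. -/
abbrev P : Over (Spec (CommRingCat.of K)) :=
  Over.mk (Spec.map (CommRingCat.ofHom (algebraMap K (TrivSqZeroExt K W))))

/-- The closed point of `P W`. -/
def incl : 𝟙_ (Over (Spec (CommRingCat.of K))) ⟶ P K W :=
  Over.homMk (Spec.map (CommRingCat.ofHom (TrivSqZeroExt.fstHom K K W).toRingHom)) (by
    show Spec.map _ ≫ Spec.map _ = 𝟙 _
    rw [← Spec.map_comp, ← Spec.map_id]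
    congr 1)

theorem incl_surjective : Function.Surjective (incl K W).left := by
  intro p
  refine ⟨IsLocalRing.closedPoint K, ?_⟩
  apply PrimeSpectrum.ext
  ext x
  show TrivSqZeroExt.fstHom K K W x ∈ IsLocalRing.maximalIdeal K ↔ x ∈ (p : PrimeSpectrum (TrivSqZeroExt K W)).asIdeal
  rw [IsLocalRing.maximalIdeal_eq_bot, Ideal.mem_bot]
  have hn : ∀ w : W, (TrivSqZeroExt.inr w : TrivSqZeroExt K W) ∈ (p : PrimeSpectrum (TrivSqZeroExt K W)).asIdeal := fun w =>
    ((p : PrimeSpectrum (TrivSqZeroExt K W)).isPrime.mem_or_mem (x := TrivSqZeroExt.inr w) (y := TrivSqZeroExt.inr w)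
      (by rw [TrivSqZeroExt.inr_mul_inr]; exact zero_mem _)).elim id id
  show x.fst = 0 ↔ _
  conv_rhs => rw [← TrivSqZeroExt.inl_fst_add_inr_snd_eq x, Ideal.add_mem_iff_left _ (hn _)]
  refine ⟨fun h => by rw [h, TrivSqZeroExt.inl_zero]; exact zero_mem _, fun h => ?_⟩
  by_contra h0
  exact (p : PrimeSpectrum (TrivSqZeroExt K W)).isPrime.ne_top
    (Ideal.eq_top_of_isUnit_mem _ h ((IsUnit.mk0 _ h0).map (TrivSqZeroExt.inlHom K W)))

variable {K W}
variable {W' W'' : Type u} [AddCommGroup W'] [Module K W'] [Module Kᵐᵒᵖ W'] [IsCentralScalar K W']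
  [AddCommGroup W''] [Module K W''] [Module Kᵐᵒᵖ W''] [IsCentralScalar K W'']

/-- Contravariant functoriality of `P`. -/
def pm (L : W →ₗ[K] W') : P K W' ⟶ P K W :=
  Over.homMk (Spec.map (CommRingCat.ofHom (TrivSqZeroExt.map L).toRingHom)) (by
    show Spec.map _ ≫ Spec.map _ = Spec.map _
    rw [← Spec.map_comp]
    congr 1
    ext1
    exact (TrivSqZeroExt.map L).comp_algebraMap)

theorem pm_comp (M : W →ₗ[K] W') (L : W' →ₗ[K] W'') : pm (L ∘ₗ M) = pm L ≫ pm M := by
  apply Over.OverMorphism.ext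
  show Spec.map _ = Spec.map _ ≫ Spec.map _
  rw [← Spec.map_comp, ← CommRingCat.ofHom_comp, TrivSqZeroExt.map_comp_map]
  rfl

theorem pm_id : pm (LinearMap.id : W →ₗ[K] W) = 𝟙 _ := by
  apply Over.OverMorphism.ext
  show Spec.map _ = 𝟙 _
  rw [TrivSqZeroExt.map_id, ← Spec.map_id]
  rfl

theorem pm_zero : pm (0 : W →ₗ[K] W') = toUnit _ ≫ incl K W := by
  apply Over.OverMorphism.ext
  show Spec.map _ = (toUnit (P K W')).left ≫ Spec.map _
  rw [show (toUnit (P K W')).left = (P K W').hom from by simpa using Over.w (toUnit (P K W'))]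
  show Spec.map _ = Spec.map _ ≫ Spec.map _
  rw [← Spec.map_comp]
  congr 1
  ext x <;> simp [TrivSqZeroExt.algebraMap_eq_inl]

theorem incl_pm (L : W →ₗ[K] W') : incl K W' ≫ pm L = incl K W := by
  apply Over.OverMorphism.ext
  show Spec.map _ ≫ Spec.map _ = Spec.map _
  rw [← Spec.map_comp]
  congr 1
  ext x
  simp

end Pt

variable {G : Over (Spec (CommRingCat.of K))}

theorem ext_of_projections [GrpObj G] {c d : P K (K × K) ⟶ G} (hc : incl K (K × K) ≫ c = η[G])
    (hd : incl K (K × K) ≫ d = η[G]) (h1 : pm (LinearMap.fst K K K) ≫ c = pm (LinearMap.fst K K K) ≫ d)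
    (h2 : pm (LinearMap.snd K K K) ≫ c = pm (LinearMap.snd K K K) ≫ d) : c = d := by
  obtain ⟨_, ⟨U, hU, rfl⟩, heU, -⟩ := G.left.isBasis_affineOpens.exists_subset_of_mem_open
    (Set.mem_univ (η[G].left (IsLocalRing.closedPoint K))) isOpen_univ
  have hrange : ∀ t : P K (K × K) ⟶ G, incl K (K × K) ≫ t = η[G] → Set.range t.left ⊆ Set.range hU.fromSpec := by
    rintro t ht _ ⟨p, rfl⟩
    obtain ⟨q, rfl⟩ := incl_surjective K (K × K) p
    rw [hU.range_fromSpec, ← Scheme.Hom.comp_apply, ← Over.comp_left, ht,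
      Subsingleton.elim (α := PrimeSpectrum K) q (IsLocalRing.closedPoint K)]
    exact heU
  obtain ⟨γc, hγc⟩ := Spec.map_surjective (IsOpenImmersion.lift hU.fromSpec c.left (hrange c hc))
  obtain ⟨γd, hγd⟩ := Spec.map_surjective (IsOpenImmersion.lift hU.fromSpec d.left (hrange d hd))
  have ec : Spec.map γc ≫ hU.fromSpec = c.left := by rw [hγc, IsOpenImmersion.lift_fac]
  have ed : Spec.map γd ≫ hU.fromSpec = d.left := by rw [hγd, IsOpenImmersion.lift_fac]
  have key : ∀ L : K × K →ₗ[K] K, pm L ≫ c = pm L ≫ d → ∀ a,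
      TrivSqZeroExt.map L (γc.hom a) = TrivSqZeroExt.map L (γd.hom a) := by
    intro L hL a
    have h : (pm L ≫ c).left = (pm L ≫ d).left := by rw [hL]
    rw [Over.comp_left, Over.comp_left, ← ec, ← ed, ← Category.assoc, ← Category.assoc, cancel_mono] at h
    rw [show (pm L).left = Spec.map (CommRingCat.ofHom (TrivSqZeroExt.map L).toRingHom) from rfl,
      ← Spec.map_comp, ← Spec.map_comp] at h
    exact congr($(Spec.map_injective h) a)
  apply Over.OverMorphism.ext
  rw [← ec, ← ed]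
  congr 2
  ext a
  · simpa using congrArg TrivSqZeroExt.fst (key _ h1 a)
  · simpa using congrArg TrivSqZeroExt.snd (key _ h1 a)
  · simpa using congrArg TrivSqZeroExt.snd (key _ h2 a)

variable [GrpObj G]

/-- The tangent map of `g ↦ g^k` is multiplication by `k`. -/
theorem pow_eq_scale (t : P K K ⟶ G) (ht : incl K K ≫ t = η[G]) (k : ℕ) :
    t ^ k = pm ((k : K) • (LinearMap.id : K →ₗ[K] K)) ≫ t := by
  induction k with
  | zero =>
    rw [pow_zero, Nat.cast_zero, zero_smul, pm_zero, Category.assoc, ht]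
    exact Hom.one_def
  | succ k ih =>
    let c := (pm (LinearMap.inl K K K) ≫ t ^ k) * (pm (LinearMap.inr K K K) ≫ t)
    let d := pm (((k : K) • (LinearMap.id : K →ₗ[K] K)).prod LinearMap.id) ≫ t
    have hc : incl K (K × K) ≫ c = η[G] := by
      simp only [c, MonObj.comp_mul, ← Category.assoc, incl_pm]
      rw [MonObj.comp_pow, ht, show (η[G] : 𝟙_ _ ⟶ G) = 1 by simp [Hom.one_def], one_pow, _root_.one_mul]
    have hd : incl K (K × K) ≫ d = η[G] := by
      simp only [d, ← Category.assoc, incl_pm, ht]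
    have hcd : c = d := by
      refine ext_of_projections hc hd ?_ ?_
      · simp only [c, d, MonObj.comp_mul, ← Category.assoc, ← pm_comp, LinearMap.fst_comp_inl, pm_id,
          Category.id_comp, LinearMap.fst_comp_inr, LinearMap.fst_prod]
        rw [pm_zero, Category.assoc, ht, ih, ← Hom.one_def, _root_.mul_one]
      · simp only [c, d, MonObj.comp_mul, ← Category.assoc, ← pm_comp, LinearMap.snd_comp_inl, pm_id,
          Category.id_comp, LinearMap.snd_comp_inr, LinearMap.snd_prod]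
        rw [pm_zero, Category.assoc, MonObj.comp_pow, ht,
          show (η[G] : 𝟙_ _ ⟶ G) = 1 by simp [Hom.one_def], one_pow, MonObj.comp_one, _root_.one_mul]
    have h := congrArg (fun s => pm (LinearMap.fst K K K + LinearMap.snd K K K) ≫ s) hcd
    simp only [c, d, MonObj.comp_mul, ← Category.assoc, ← pm_comp] at h
    rw [show (LinearMap.fst K K K + LinearMap.snd K K K) ∘ₗ LinearMap.inl K K K = LinearMap.id by ext; simp,
      show (LinearMap.fst K K K + LinearMap.snd K K K) ∘ₗ LinearMap.inr K K K = LinearMap.id by ext; simp,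
      show (LinearMap.fst K K K + LinearMap.snd K K K) ∘ₗ ((k : K) • (LinearMap.id : K →ₗ[K] K)).prod LinearMap.id
        = ((k + 1 : ℕ) : K) • LinearMap.id by ext; simp,
      pm_id, Category.id_comp, Category.id_comp] at h
    rw [pow_succ]
    exact h

theorem unit_pow (k : ℕ) : η[G] ≫ ((𝟙 G : G ⟶ G) ^ k) = η[G] := by
  rw [MonObj.comp_pow, Category.comp_id, show (η[G] : 𝟙_ _ ⟶ G) = 1 by simp [Hom.one_def], one_pow]

/-- A ring endomorphism of a Noetherian ring which is surjective is injective. -/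
theorem injective_of_surjective_endo {R : Type u} [CommRing R] [IsNoetherianRing R] (f : R →+* R)
    (hf : Function.Surjective f) : Function.Injective f := by
  let seq : ℕ →o Ideal R :=
    ⟨fun n => RingHom.ker (f ^ n : R →+* R), monotone_nat_of_le_succ fun n x hx => by
      rw [RingHom.mem_ker, RingHom.coe_pow] at hx ⊢
      rw [Function.iterate_succ_apply', hx, map_zero]⟩
  obtain ⟨N, hN⟩ := monotone_stabilizes_iff_noetherian.mpr (inferInstance : IsNoetherian R R) seq
  rw [injective_iff_map_eq_zero]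
  intro x hx
  obtain ⟨y, rfl⟩ := (hf.iterate N) x
  have : y ∈ seq (N + 1) := by
    show (f ^ (N + 1) : R →+* R) y = 0
    rw [RingHom.coe_pow, Function.iterate_succ_apply']; exact hx
  rw [← hN (N + 1) (Nat.le_succ N)] at this
  have h : (f ^ N : R →+* R) y = 0 := this
  rwa [RingHom.coe_pow] at h

/-- An endomorphism of a Noetherian local ring acting on `m/m²` by a unit and trivially on the residue
field is bijective modulo all powers of the maximal ideal. -/
theorem bijective_infinitesimal {A : Type u} [CommRing A] [IsLocalRing A] [IsNoetherianRing A]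
    (φ : A →+* A) [IsLocalHom φ] (c : A) (hc : IsUnit c)
    (h0 : ∀ b, ∃ a, b - φ a ∈ IsLocalRing.maximalIdeal A)
    (h1 : ∀ a ∈ IsLocalRing.maximalIdeal A, φ a - c * a ∈ IsLocalRing.maximalIdeal A ^ 2) :
    (∀ (n : ℕ) (b : A), ∃ a, b - φ a ∈ IsLocalRing.maximalIdeal A ^ (n + 1)) ∧
    (∀ (n : ℕ) (a : A), φ a ∈ IsLocalRing.maximalIdeal A ^ (n + 1) ↔ a ∈ IsLocalRing.maximalIdeal A ^ (n + 1)) := by
  set m := IsLocalRing.maximalIdeal A
  have hφm : m.map φ ≤ m := ((IsLocalRing.local_hom_TFAE φ).out 0 2).mp ‹_›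
  have hφpow : ∀ n, ∀ a ∈ m ^ n, φ a ∈ m ^ n := fun n a ha => by
    have := Ideal.mem_map_of_mem φ ha
    rw [Ideal.map_pow] at this
    exact Ideal.pow_right_mono hφm n this
  obtain ⟨u, rfl⟩ := hc
  have hlin : ∀ z ∈ m, ∃ a ∈ m, z - φ a ∈ m ^ 2 := fun z hz => by
    refine ⟨(↑u⁻¹ : A) * z, Ideal.mul_mem_left _ _ hz, ?_⟩
    have := h1 _ (Ideal.mul_mem_left m (↑u⁻¹ : A) hz)
    rw [Units.mul_inv_cancel_left] at this
    simpa using (m ^ 2).neg_mem this
  have hhom : ∀ k, ∀ z ∈ m ^ (k + 1), ∃ a ∈ m ^ (k + 1), z - φ a ∈ m ^ (k + 2) := by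
    intro k
    induction k with
    | zero => simpa using hlin
    | succ k ih =>
      intro z hz
      rw [pow_succ] at hz
      refine Submodule.mul_induction_on hz (fun x hx y hy => ?_) (fun x y hx hy => ?_)
      ·
        obtain ⟨a, ha, ha'⟩ := ih x hx
        obtain ⟨b, hb, hb'⟩ := hlin y hy
        refine ⟨a * b, by rw [pow_succ]; exact Ideal.mul_mem_mul ha hb, ?_⟩
        have : x * y - φ (a * b) = (x - φ a) * y + φ a * (y - φ b) := by rw [map_mul]; ring
        rw [this]
        refine add_mem ?_ ?_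
        · rw [pow_succ]; exact Ideal.mul_mem_mul ha' hy
        · have := Ideal.mul_mem_mul (hφpow _ a ha) hb'
          rwa [← pow_add, show k + 1 + 2 = k + 1 + 1 + 1 from rfl] at this
      · obtain ⟨a, ha, ha'⟩ := hx
        obtain ⟨b, hb, hb'⟩ := hy
        exact ⟨a + b, add_mem ha hb, by rw [map_add, add_sub_add_comm]; exact add_mem ha' hb'⟩
  have hsurj : ∀ (n : ℕ) (b : A), ∃ a, b - φ a ∈ m ^ (n + 1) := by
    intro n
    induction n with
    | zero => simpa using h0
    | succ n ih =>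
      intro b
      obtain ⟨a, ha⟩ := ih b
      obtain ⟨a', -, ha'⟩ := hhom n _ ha
      exact ⟨a + a', by rw [map_add, ← sub_sub]; exact ha'⟩
  refine ⟨hsurj, fun n a => ⟨fun h => ?_, hφpow _ a⟩⟩
  let fbar : A ⧸ m ^ (n + 1) →+* A ⧸ m ^ (n + 1) :=
    Ideal.quotientMap _ φ fun x hx => hφpow _ x hx
  have hinj := injective_of_surjective_endo fbar fun y => by
    obtain ⟨b, rfl⟩ := Ideal.Quotient.mk_surjective y
    obtain ⟨a, ha⟩ := hsurj n b
    exact ⟨Ideal.Quotient.mk _ a, (Ideal.Quotient.eq.mpr ha).symm⟩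
  rw [← Ideal.Quotient.eq_zero_iff_mem]
  apply hinj
  rw [map_zero]
  exact Ideal.Quotient.eq_zero_iff_mem.mpr h

end

end Groth.FibrewiseCrit.Tangent
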