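import Mathlib
import Groth.Agent.FlatDescent.Scheme
import Groth.Agent.FibrewiseCrit.Tangent
import Groth.Agent.FibrewiseCrit.Group

/-!
# Power maps of invertible exponent are etale near the unit
-/

universe u

open CategoryTheory CategoryTheory.Limits MonoidalCategory CartesianMonoidalCategory MonObj GrpObj AlgebraicGeometry

namespace Groth.FibrewiseCrit

set_option linter.style.haveILetI false
set_option backward.isDefEq.respectTransparency false

open Tangent

theorem formallyUnramified_of_map_maximalIdeal {R S : Type u} [CommRing R] [CommRing S] [IsLocalRing R]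
    [IsLocalRing S] (φ : R →+* S) [IsLocalHom φ] (hft : φ.EssFiniteType)
    (h0 : ∀ b, ∃ a, b - φ a ∈ IsLocalRing.maximalIdeal S)
    (h1 : (IsLocalRing.maximalIdeal R).map φ = IsLocalRing.maximalIdeal S) : φ.FormallyUnramified := by
  algebraize [φ]
  haveI : IsLocalHom (algebraMap R S) := ‹IsLocalHom φ›
  haveI : Algebra.IsSeparable (IsLocalRing.ResidueField R) (IsLocalRing.ResidueField S) := by
    refine ⟨fun x => ?_⟩
    obtain ⟨b, rfl⟩ := IsLocalRing.residue_surjective x
    obtain ⟨a, ha⟩ := h0 b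
    rw [show IsLocalRing.residue S b =
      algebraMap (IsLocalRing.ResidueField R) (IsLocalRing.ResidueField S) (IsLocalRing.residue R a) from
      (Ideal.Quotient.eq.mpr ha).trans rfl]
    exact isSeparable_algebraMap _
  exact Algebra.FormallyUnramified.of_map_maximalIdeal h1

theorem exists_stalk_endo {X : Scheme.{u}} (f : X ⟶ X) {e y : X} (h : f e = y) :
    ∃ φ : X.presheaf.stalk y ⟶ X.presheaf.stalk e, IsLocalHom φ.hom ∧
      X.fromSpecStalk e ≫ f = Spec.map φ ≫ X.fromSpecStalk y ∧
      (φ.hom.Flat → (f.stalkMap e).hom.Flat) ∧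
      (φ.hom.FormallyUnramified ↔ (f.stalkMap e).hom.FormallyUnramified) ∧
      ((f.stalkMap e).hom.EssFiniteType → φ.hom.EssFiniteType) := by
  subst h
  exact ⟨f.stalkMap e, inferInstance, (Scheme.SpecMap_stalkMap_fromSpecStalk f).symm, id, Iff.rfl, id⟩

variable {K : Type u} [Field K] {G : Over (Spec (CommRingCat.of K))} [GrpObj G]

/-- The stalk map of the `n`-th power map at the unit is multiplication by `n` modulo the square of the
maximal ideal. -/
theorem exists_stalk_pow [LocallyOfFiniteType G.hom] (n : ℕ) :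
    ∃ φ : G.left.presheaf.stalk (η[G].left (IsLocalRing.closedPoint K)) ⟶
        G.left.presheaf.stalk (η[G].left (IsLocalRing.closedPoint K)),
      IsLocalHom φ.hom ∧ φ.hom.EssFiniteType ∧
      (φ.hom.Flat → (((𝟙 G : G ⟶ G) ^ n).left.stalkMap (η[G].left (IsLocalRing.closedPoint K))).hom.Flat) ∧
      (φ.hom.FormallyUnramified ↔ η[G].left (IsLocalRing.closedPoint K) ∈ fuLocus ((𝟙 G : G ⟶ G) ^ n).left) ∧
      (∀ b, ∃ a, b - φ.hom a ∈ IsLocalRing.maximalIdeal _) ∧
      (∀ a ∈ IsLocalRing.maximalIdeal _, φ.hom a - (n : G.left.presheaf.stalk _) * a ∈ IsLocalRing.maximalIdeal _ ^ 2) := by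
  let u : Spec (CommRingCat.of K) ⟶ G.left := η[G].left
  let f : G.left ⟶ G.left := ((𝟙 G : G ⟶ G) ^ n).left
  let e : G.left := u (IsLocalRing.closedPoint K)
  have hue : u ≫ f = u := by
    show η[G].left ≫ ((𝟙 G : G ⟶ G) ^ n).left = η[G].left
    rw [← Over.comp_left, unit_pow]
  have hfe : f e = e := by rw [← Scheme.Hom.comp_apply, hue]
  haveI : IsLocallyNoetherian G.left := LocallyOfFiniteType.isLocallyNoetherian G.hom
  haveI : LocallyOfFiniteType f := by
    haveI : LocallyOfFiniteType (f ≫ G.hom) := by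
      rw [show f ≫ G.hom = G.hom from Over.w _]; infer_instance
    exact locallyOfFiniteType_of_comp f G.hom
  obtain ⟨φ, hloc, hφ, hflat, hfu, heft⟩ := exists_stalk_endo f hfe
  let A := G.left.presheaf.stalk e
  let ε : A ⟶ CommRingCat.of K := Scheme.stalkClosedPointTo u
  have hε : Spec.map ε ≫ G.left.fromSpecStalk e = u := Scheme.Spec_stalkClosedPointTo_fromSpecStalk _
  let s : CommRingCat.of K ⟶ A := Spec.preimage (G.left.fromSpecStalk e ≫ G.hom)
  have hs : Spec.map s = G.left.fromSpecStalk e ≫ G.hom := Spec.map_preimage _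
  letI : Algebra K A := s.hom.toAlgebra
  have hsε : ∀ c : K, ε.hom (algebraMap K A c) = c := by
    intro c
    have : s ≫ ε = 𝟙 _ := by
      apply Spec.map_injective
      rw [Spec.map_comp, Spec.map_id, hs, reassoc_of% hε]
      exact Over.w η[G]
    exact congr($(this) c)
  have hm : ∀ a : A, a ∈ IsLocalRing.maximalIdeal A ↔ ε.hom a = 0 := by
    intro a
    rw [IsLocalRing.mem_maximalIdeal, mem_nonunits_iff, ← isUnit_map_iff ε.hom a, isUnit_iff_ne_zero,
      not_not]
  have hsub : ∀ a : A, a - algebraMap K A (ε.hom a) ∈ IsLocalRing.maximalIdeal A := fun a => by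
    rw [hm, map_sub, hsε, sub_self]
  have hφs : ∀ c : K, φ.hom (algebraMap K A c) = algebraMap K A c := by
    intro c
    have : s ≫ φ = s := by
      apply Spec.map_injective
      rw [Spec.map_comp, hs, ← reassoc_of% hφ, show f ≫ G.hom = G.hom from Over.w _]
    exact congr($(this) c)
  have hlocal : ∀ a ∈ IsLocalRing.maximalIdeal A, φ.hom a ∈ IsLocalRing.maximalIdeal A := fun a ha => by
    rw [IsLocalRing.mem_maximalIdeal, mem_nonunits_iff, isUnit_map_iff φ.hom a]; exact ha
  have h1 : ∀ a ∈ IsLocalRing.maximalIdeal A,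
      φ.hom a - (n : A) * a ∈ IsLocalRing.maximalIdeal A ^ 2 := by
    intro a ha
    by_contra hb
    obtain ⟨ξ, hξb, hξ⟩ := Submodule.exists_le_ker_of_notMem
      (p := (IsLocalRing.maximalIdeal A ^ 2).restrictScalars K) (v := φ.hom a - (n : A) * a) (fun h => hb ((Submodule.restrictScalars_mem K _ _).mp h))
    let D : A → K := fun x => ξ (x - algebraMap K A (ε.hom x))
    have hD : ∀ x y, D (x * y) = ε.hom x * D y + ε.hom y * D x := by
      intro x y
      have h2 : (x - algebraMap K A (ε.hom x)) * (y - algebraMap K A (ε.hom y)) ∈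
          (IsLocalRing.maximalIdeal A ^ 2).restrictScalars K := by
        rw [Submodule.restrictScalars_mem, pow_two]
        exact Ideal.mul_mem_mul (hsub x) (hsub y)
      have e1 : x * y - algebraMap K A (ε.hom (x * y)) =
          (x - algebraMap K A (ε.hom x)) * (y - algebraMap K A (ε.hom y)) +
            (ε.hom x • (y - algebraMap K A (ε.hom y)) + ε.hom y • (x - algebraMap K A (ε.hom x))) := by
        rw [map_mul, map_mul, Algebra.smul_def, Algebra.smul_def]; ring
      simp only [D]
      rw [e1, map_add, LinearMap.mem_ker.mp (hξ h2), zero_add, map_add, map_smul, map_smul, smul_eq_mul,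
        smul_eq_mul]
    let ψ : A →ₐ[K] TrivSqZeroExt K K :=
      { toFun := fun x => TrivSqZeroExt.inl (ε.hom x) + TrivSqZeroExt.inr (D x)
        map_one' := by ext <;> simp [D]
        map_mul' := fun x y => by ext <;> simp [hD, TrivSqZeroExt.snd_mul] <;> ring
        map_zero' := by ext <;> simp [D]
        map_add' := fun x y => by
          ext <;> simp [D, map_sub] <;> ring
        commutes' := fun c => by ext <;> simp [D, hsε, TrivSqZeroExt.algebraMap_eq_inl] }
    let t : P K K ⟶ G := Over.homMk (Spec.map (CommRingCat.ofHom ψ.toRingHom) ≫ G.left.fromSpecStalk e) (by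
      show (Spec.map _ ≫ _) ≫ G.hom = Spec.map _
      rw [Category.assoc, ← hs, ← Spec.map_comp]
      congr 1
      ext1
      exact ψ.comp_algebraMap)
    have ht : incl K K ≫ t = η[G] := by
      apply Over.OverMorphism.ext
      show Spec.map _ ≫ Spec.map _ ≫ G.left.fromSpecStalk e = u
      rw [← Category.assoc, ← Spec.map_comp, ← hε]
      congr 2
      ext x
      simp [ψ]
      rfl
    have hp := congrArg CommaMorphism.left (pow_eq_scale t ht n)
    rw [show t ^ n = t ≫ (𝟙 G : G ⟶ G) ^ n by rw [MonObj.comp_pow, Category.comp_id]] at hp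
    change (Spec.map _ ≫ G.left.fromSpecStalk e) ≫ f = Spec.map _ ≫ Spec.map _ ≫ G.left.fromSpecStalk e at hp
    rw [Category.assoc, hφ, ← Category.assoc, ← Category.assoc, cancel_mono, ← Spec.map_comp,
      ← Spec.map_comp] at hp
    have h3 : TrivSqZeroExt.snd (ψ (φ.hom a)) = (n : K) * TrivSqZeroExt.snd (ψ a) := by
      have := congrArg TrivSqZeroExt.snd congr($(Spec.map_injective hp) a)
      simpa using this
    simp [ψ, D, (hm a).mp ha, (hm _).mp (hlocal a ha)] at h3
    apply hξb
    rw [map_sub, h3, ← nsmul_eq_mul, ← nsmul_eq_mul, map_nsmul, sub_self]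
  exact ⟨φ, hloc, heft (LocallyOfFiniteType.stalkMap f e), hflat, hfu,
    fun b => ⟨algebraMap K A (ε.hom b), by have := hsub b; rw [← hφs (ε.hom b)] at this; exact this⟩, h1⟩

/-- The `n`-th power map is flat and unramified at the unit, for `n` invertible in the field. -/
theorem flat_and_unramified_pow_at_unit [LocallyOfFiniteType G.hom] (n : ℕ) (hn : (n : K) ≠ 0) :
    (((𝟙 G : G ⟶ G) ^ n).left.stalkMap (η[G].left (IsLocalRing.closedPoint K))).hom.Flat ∧
      η[G].left (IsLocalRing.closedPoint K) ∈ fuLocus ((𝟙 G : G ⟶ G) ^ n).left := by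
  obtain ⟨φ, hloc, heft, hflat, hfu, h0, h1⟩ := exists_stalk_pow (G := G) n
  haveI : IsLocallyNoetherian G.left := LocallyOfFiniteType.isLocallyNoetherian G.hom
  let e : G.left := η[G].left (IsLocalRing.closedPoint K)
  let A := G.left.presheaf.stalk e
  have hunit : IsUnit (n : A) := by
    rw [← map_natCast (Spec.preimage (G.left.fromSpecStalk e ≫ G.hom)).hom]
    exact (IsUnit.mk0 _ hn).map _
  have hlocal : ∀ a ∈ IsLocalRing.maximalIdeal A, φ.hom a ∈ IsLocalRing.maximalIdeal A := fun a ha => by
    rw [IsLocalRing.mem_maximalIdeal, mem_nonunits_iff, isUnit_map_iff φ.hom a]; exact ha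
  obtain ⟨hbs, hbi⟩ := bijective_infinitesimal φ.hom (n : A) hunit h0 h1
  refine ⟨hflat (flat_of_bijective_infinitesimal φ.hom hbs hbi), hfu.mp ?_⟩
  refine formallyUnramified_of_map_maximalIdeal φ.hom heft h0 ?_
  refine le_antisymm (Ideal.map_le_iff_le_comap.mpr fun a ha => hlocal a ha) ?_
  refine Submodule.le_of_le_smul_of_le_jacobson_bot (IsNoetherian.noetherian _)
    (IsLocalRing.maximalIdeal_le_jacobson ⊥) fun b hb => ?_
  obtain ⟨a, ha⟩ := hbs 1 b
  have hφa : φ.hom a ∈ IsLocalRing.maximalIdeal A := by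
    have := sub_mem hb (Ideal.pow_le_self two_ne_zero ha)
    rwa [sub_sub_cancel] at this
  have ha' : a ∈ IsLocalRing.maximalIdeal A := by
    have := (hbi 0 a).mp (by rwa [zero_add, pow_one])
    rwa [zero_add, pow_one] at this
  have ha2 : b - φ.hom a ∈ IsLocalRing.maximalIdeal A • IsLocalRing.maximalIdeal A := by
    rw [smul_eq_mul, ← pow_two]; exact ha
  have h2 := Submodule.add_mem_sup (Ideal.mem_map_of_mem φ.hom ha') ha2
  rw [add_sub_cancel] at h2
  exact h2

/-- The `n`-th power map is etale on an open neighbourhood of the unit. -/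
theorem exists_etale_pow_at_unit [LocallyOfFiniteType G.hom] (n : ℕ) (hn : (n : K) ≠ 0) :
    ∃ U : G.left.Opens, η[G].left (IsLocalRing.closedPoint K) ∈ U ∧
      Etale (U.ι ≫ ((𝟙 G : G ⟶ G) ^ n).left) := by
  let f : G.left ⟶ G.left := ((𝟙 G : G ⟶ G) ^ n).left
  haveI : IsLocallyNoetherian G.left := LocallyOfFiniteType.isLocallyNoetherian G.hom
  haveI : LocallyOfFiniteType f := by
    haveI : LocallyOfFiniteType (f ≫ G.hom) := by
      rw [show f ≫ G.hom = G.hom from Over.w _]; infer_instance
    exact locallyOfFiniteType_of_comp f G.hom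
  haveI : LocallyOfFinitePresentation f :=
    (LocallyOfFinitePresentation.iff_locallyOfFiniteType (f := f)).mpr inferInstance
  obtain ⟨h1, h2⟩ := flat_and_unramified_pow_at_unit (G := G) n hn
  let U : G.left.Opens := ⟨{x | (f.stalkMap x).hom.Flat} ∩ fuLocus f,
    (FlatDescent.isOpen_flatLocus_hom f).inter (isOpen_fuLocus f)⟩
  haveI : Flat (U.ι ≫ f) := Flat.of_stalkMap _ fun w => by
    rw [Scheme.Hom.stalkMap_comp, CommRingCat.hom_comp, RingHom.Flat.respectsIso.cancel_right_isIso]
    exact w.2.1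
  haveI : FormallyUnramified (U.ι ≫ f) :=
    (formallyUnramified_iff_forall_mem_fuLocus _).mpr fun w => (mem_fuLocus_comp_left _ f w).mpr w.2.2
  exact ⟨U, ⟨h1, h2⟩, Etale.of_formallyUnramified_of_flat _⟩

/-- In a commutative group the power maps are homomorphisms. -/
theorem isMonHom_pow {S : Scheme.{u}} (X : Over S) [GrpObj X] [IsCommMonObj X] (n : ℕ) :
    IsMonHom ((𝟙 X : X ⟶ X) ^ n) := by
  letI : CommMonoid (X ⊗ X ⟶ X) := Hom.commMonoid
  refine ⟨?_, ?_⟩
  · rw [MonObj.comp_pow, Category.comp_id, show (η[X] : 𝟙_ _ ⟶ X) = 1 by simp [Hom.one_def], one_pow]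
  · have h1 : μ[X] = fst X X * snd X X := by rw [Hom.mul_def, lift_fst_snd, Category.id_comp]
    rw [MonObj.comp_pow, Category.comp_id, h1, mul_pow, MonObj.comp_mul, tensorHom_fst, tensorHom_snd,
      MonObj.comp_pow, MonObj.comp_pow, Category.comp_id, Category.comp_id]

/-- The `n`-th power map of a commutative group over a field is etale for invertible `n`. -/
theorem etale_pow_of_field [IsCommMonObj G] [LocallyOfFiniteType G.hom] (n : ℕ) (hn : (n : K) ≠ 0) :
    Etale ((𝟙 G : G ⟶ G) ^ n).left := by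
  let F : G ⟶ G := (𝟙 G : G ⟶ G) ^ n
  haveI : IsMonHom F := isMonHom_pow G n
  haveI : IsLocallyNoetherian G.left := LocallyOfFiniteType.isLocallyNoetherian G.hom
  haveI : LocallyOfFiniteType F.left := by
    haveI : LocallyOfFiniteType (F.left ≫ G.hom) := by rw [Over.w F]; infer_instance
    exact locallyOfFiniteType_of_comp F.left G.hom
  haveI : LocallyOfFinitePresentation F.left :=
    (LocallyOfFinitePresentation.iff_locallyOfFiniteType (f := F.left)).mpr inferInstance
  obtain ⟨U, hU, hUe⟩ := exists_etale_pow_at_unit (G := G) n hn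
  obtain ⟨hs, hu⟩ := (exists_nhd_etale_iff F.left _).mp ⟨U, hU, hUe⟩
  have hsat : ∀ x : G.left, G.hom (η[G].left (IsLocalRing.closedPoint K)) = G.hom x :=
    fun x => Subsingleton.elim (α := PrimeSpectrum K) _ _
  haveI : Flat G.hom := inferInstance
  haveI : Smooth F.left := Scheme.Hom.smoothLocus_eq_top_iff.mp
    (top_le_iff.mp fun x _ => smoothLocus_saturated F (hsat x) hs)
  haveI : FormallyUnramified F.left :=
    (formallyUnramified_iff_forall_mem_fuLocus _).mpr fun x => fuLocus_saturated F (hsat x) hu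
  exact Etale.of_formallyUnramified_of_flat _

end Groth.FibrewiseCrit
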